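import Groth.Agent.DerivedComplete.Completion

/-!
Amplitude of derived completion.
-/

universe u

open CategoryTheory Limits Pretriangulated

attribute [local instance] HasDerivedCategory.standard

namespace Groth.Agent.DerivedComplete

variable {A : Type u} [CommRing A] (s : Finset A) (I : Ideal A)

/-- complete for each element of the set -/
def CompleteFor (L : DerivedCategory (ModuleCat.{u} A)) : Prop := ∀ g ∈ s, ∀ n, DC (Dual.HD A L n) g

/-- precomposition with `η` is bijective into complete objects -/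
def IsUnit' {K C : DerivedCategory (ModuleCat.{u} A)} (η : K ⟶ C) : Prop :=
  ∀ L, CompleteFor s L → Function.Bijective fun φ : C ⟶ L => η ≫ φ

theorem completeFor_iff (hs : Ideal.span (s : Set A) = I) (L : Dual.D A) :
    DRing.IsDerivedComplete I L ↔ CompleteFor s L := by
  rw [isDerivedComplete_iff, ← hs]
  simp only [dci_span_iff]
  exact ⟨fun h g hg n => h n g hg, fun h n g hg => h g hg n⟩

variable {s} in
theorem IsUnit'.shift {K C : DerivedCategory (ModuleCat.{u} A)} {η : K ⟶ C} (h : IsUnit' s η) :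
    IsUnit' s (η⟦(1 : ℤ)⟧') := fun L hL => by
  let adj := (shiftEquiv' (DerivedCategory (ModuleCat.{u} A)) (1 : ℤ) (-1) (by simp)).toAdjunction
  have : (fun φ : C⟦(1 : ℤ)⟧ ⟶ L => η⟦(1 : ℤ)⟧' ≫ φ) =
      (adj.homEquiv K L).symm ∘ (fun ψ => η ≫ ψ) ∘ (adj.homEquiv C L) := funext fun φ => by
    apply (adj.homEquiv K L).injective
    simp only [Function.comp_apply, Equiv.apply_symm_apply]
    exact adj.homEquiv_naturality_left η φ
  rw [this]
  exact (adj.homEquiv K L).symm.bijective.comp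
    ((h _ fun g hg n => dc_shift L (hL g hg) (-1) n).comp (adj.homEquiv C L).bijective)

variable {s} in
theorem IsUnit'.unique {K C C' : DerivedCategory (ModuleCat.{u} A)} {η : K ⟶ C} {η' : K ⟶ C'}
    (h : IsUnit' s η) (h' : IsUnit' s η') (hC : CompleteFor s C) (hC' : CompleteFor s C') : Nonempty (C ≅ C') := by
  obtain ⟨a, ha⟩ := (h C' hC').surjective η'
  obtain ⟨b, hb⟩ := (h' C hC).surjective η
  exact ⟨⟨a, b, (h C hC).injective (show η ≫ a ≫ b = η ≫ 𝟙 C by rw [← Category.assoc]; simp_all),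
    (h' C' hC').injective (show η' ≫ b ≫ a = η' ≫ 𝟙 C' by rw [← Category.assoc]; simp_all)⟩⟩

theorem isUnit_toDerivedCompletion (hs : Ideal.span (s : Set A) = I) [DRing.HasDerivedCompletion I] (K : Dual.D A) :
    IsUnit' s (DRing.toDerivedCompletion I K) := fun L hL => by
  let X : DRing.DComp I := ⟨L, (completeFor_iff s I hs L).2 hL⟩
  let e := (DRing.derivedCompletionAdj I).homEquiv K X
  have : (fun φ : ((DRing.derivedCompletion I).obj K).obj ⟶ L => DRing.toDerivedCompletion I K ≫ φ) =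
      e ∘ ObjectProperty.homMk := funext fun φ => ((DRing.derivedCompletionAdj I).homEquiv_unit K X (ObjectProperty.homMk φ)).symm
  rw [this]
  refine e.bijective.comp ⟨fun a b hab => congrArg InducedCategory.Hom.hom hab, fun φ => ⟨φ.hom, rfl⟩⟩

theorem subsingleton_of_isUnit {K C : DerivedCategory (ModuleCat.{u} A)} {η : K ⟶ C} (h : IsUnit' s η)
    (hC : CompleteFor s C) (n : ℤ) (hn : ∀ i : ℤ, n ≤ i → i ≤ n + s.card → Subsingleton (Dual.HD A K i)) :
    Subsingleton (Dual.HD A C n) := by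
  obtain ⟨C₀, η₀, h₁, -, h₃, h₄⟩ := exists_completion s K
  obtain ⟨e⟩ := h.unique (C' := C₀) (η' := η₀) h₄ hC h₁
  haveI := h₃ n hn
  exact ((DerivedCategory.homologyFunctor (ModuleCat.{u} A) n).mapIso e).toLinearEquiv.injective.subsingleton

theorem completeFor_third (T : Triangle (DerivedCategory (ModuleCat.{u} A))) (hT : T ∈ distTriang _)
    (h₁ : CompleteFor s T.obj₁) (h₂ : CompleteFor s T.obj₂) : CompleteFor s T.obj₃ := fun g hg n =>
  dc_middle _ _ _ _
    ((ShortComplex.ShortExact.moduleCat_exact_iff_function_exact _).1 (DerivedCategory.HomologySequence.exact₂ _ hT n))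
    ((ShortComplex.ShortExact.moduleCat_exact_iff_function_exact _).1 (DerivedCategory.HomologySequence.exact₃ _ hT n (n + 1)))
    ((ShortComplex.ShortExact.moduleCat_exact_iff_function_exact _).1 (DerivedCategory.HomologySequence.exact₁ _ hT n (n + 1)))
    (h₁ g hg n) (h₂ g hg n) (h₁ g hg (n + 1)) (h₂ g hg (n + 1))

theorem isUnit_third (T T' : Triangle (DerivedCategory (ModuleCat.{u} A))) (hT : T ∈ distTriang _)
    (hT' : T' ∈ distTriang _) (a : T ⟶ T') (h₁ : IsUnit' s a.hom₁) (h₂ : IsUnit' s a.hom₂) :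
    IsUnit' s a.hom₃ := fun L hL => by
  refine ⟨fun x y hxy => sub_eq_zero.1 ?_, fun g => ?_⟩
  · have h0 : a.hom₃ ≫ (x - y) = 0 := (Preadditive.comp_sub _ _ _).trans (sub_eq_zero.2 hxy)
    have e₂ : T'.mor₂ ≫ (x - y) = 0 := (h₂ L hL).injective (show a.hom₂ ≫ T'.mor₂ ≫ (x - y) = a.hom₂ ≫ (0 : T'.obj₂ ⟶ L) by
      rw [← Category.assoc, ← a.comm₂, Category.assoc, h0, comp_zero, comp_zero])
    obtain ⟨ω, hω⟩ := Triangle.yoneda_exact₃ T' hT' (x - y) e₂
    have e₃ : T.mor₃ ≫ a.hom₁⟦(1 : ℤ)⟧' ≫ ω = 0 := by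
      rw [← Category.assoc, a.comm₃, Category.assoc, ← hω, h0]
    obtain ⟨χ, hχ⟩ := Triangle.yoneda_exact₃ T.rotate (rot_of_distTriang _ hT) (a.hom₁⟦(1 : ℤ)⟧' ≫ ω) e₃
    obtain ⟨χ', hχ'⟩ : ∃ χ' : T'.obj₂⟦(1 : ℤ)⟧ ⟶ L, a.hom₂⟦(1 : ℤ)⟧' ≫ χ' = χ :=
      (h₂.shift L hL).surjective χ
    have e₄ : ω = -(T'.mor₁⟦(1 : ℤ)⟧' ≫ χ') := (h₁.shift L hL).injective (by
      show a.hom₁⟦(1 : ℤ)⟧' ≫ ω = a.hom₁⟦(1 : ℤ)⟧' ≫ (-(T'.mor₁⟦(1 : ℤ)⟧' ≫ χ'))
      refine hχ.trans ?_
      rw [← hχ', Preadditive.comp_neg, ← Functor.map_comp_assoc, ← a.comm₁, Functor.map_comp_assoc]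
      exact Preadditive.neg_comp _ _)
    rw [hω, e₄, Preadditive.comp_neg, ← Category.assoc, comp_distTriang_mor_zero₃₁ T' hT', zero_comp, neg_zero]
  · obtain ⟨b, hb⟩ : ∃ b, a.hom₂ ≫ b = T.mor₂ ≫ g := (h₂ L hL).surjective _
    have e₁ : T'.mor₁ ≫ b = 0 := (h₁ L hL).injective (show a.hom₁ ≫ T'.mor₁ ≫ b = a.hom₁ ≫ (0 : T'.obj₁ ⟶ L) by
      rw [← Category.assoc, ← a.comm₁, Category.assoc, hb, ← Category.assoc, comp_distTriang_mor_zero₁₂ T hT,
        zero_comp, comp_zero])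
    obtain ⟨ζ, hζ⟩ := Triangle.yoneda_exact₂ T' hT' b e₁
    have e₂ : T.mor₂ ≫ (g - a.hom₃ ≫ ζ) = 0 := by
      rw [Preadditive.comp_sub, ← Category.assoc, a.comm₂, Category.assoc, ← hζ, hb, sub_self]
    obtain ⟨ω, hω⟩ := Triangle.yoneda_exact₃ T hT _ e₂
    obtain ⟨ω', hω'⟩ : ∃ ω', a.hom₁⟦(1 : ℤ)⟧' ≫ ω' = ω := (h₁.shift L hL).surjective ω
    refine ⟨ζ + T'.mor₃ ≫ ω', ?_⟩
    show a.hom₃ ≫ (ζ + T'.mor₃ ≫ ω') = g
    rw [Preadditive.comp_add, ← Category.assoc a.hom₃ T'.mor₃, ← a.comm₃, Category.assoc, hω', ← hω]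
    abel

/-- the cone of a completed map is the completion of the cone -/
theorem cone_completion (hs : Ideal.span (s : Set A) = I) [DRing.HasDerivedCompletion I] {K L : Dual.D A} (φ : K ⟶ L) :
    ∃ (T T' : Triangle (DerivedCategory (ModuleCat.{u} A))) (q : T.obj₃ ⟶ T'.obj₃),
      T ∈ distTriang _ ∧ T' ∈ distTriang _ ∧ CompleteFor s T'.obj₃ ∧ IsUnit' s q ∧
      Nonempty (Arrow.mk T.mor₁ ≅ Arrow.mk φ) ∧
      Nonempty (Arrow.mk T'.mor₁ ≅ Arrow.mk ((DRing.derivedCompletion I).map φ).hom) := by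
  obtain ⟨Q, g, h, hT⟩ := distinguished_cocone_triangle φ
  obtain ⟨Z, g', h', hT'⟩ := distinguished_cocone_triangle ((DRing.derivedCompletion I).map φ).hom
  let T := Triangle.mk φ g h
  let T' := Triangle.mk ((DRing.derivedCompletion I).map φ).hom g' h'
  have comm : T.mor₁ ≫ DRing.toDerivedCompletion I L = DRing.toDerivedCompletion I K ≫ T'.mor₁ :=
    (DRing.derivedCompletionAdj I).unit.naturality φ
  let a := completeDistinguishedTriangleMorphism T T' hT hT' _ _ comm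
  exact ⟨T, T', a.hom₃, hT, hT',
    completeFor_third s T' hT' ((completeFor_iff s I hs _).1 ((DRing.derivedCompletion I).obj K).property)
      ((completeFor_iff s I hs _).1 ((DRing.derivedCompletion I).obj L).property),
    isUnit_third s T T' hT hT' a (isUnit_toDerivedCompletion s I hs K) (isUnit_toDerivedCompletion s I hs L),
    ⟨Iso.refl _⟩, ⟨Iso.refl _⟩⟩

theorem homology_third_subsingleton (T : Triangle (DerivedCategory (ModuleCat.{u} A))) (hT : T ∈ distTriang _) (i : ℤ)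
    [Epi ((DerivedCategory.homologyFunctor (ModuleCat.{u} A) i).map T.mor₁)]
    [Mono ((DerivedCategory.homologyFunctor (ModuleCat.{u} A) (i + 1)).map T.mor₁)] :
    Subsingleton (Dual.HD A T.obj₃ i) :=
  ModuleCat.subsingleton_of_isZero ((DerivedCategory.HomologySequence.exact₃ T hT i (i + 1)).isZero_of_both_zeros
    ((DerivedCategory.HomologySequence.epi_homologyMap_mor₁_iff T hT i).1 inferInstance)
    ((DerivedCategory.HomologySequence.mono_homologyMap_mor₁_iff T hT i (i + 1)).1 inferInstance))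

theorem homology_mor₁_epi (T : Triangle (DerivedCategory (ModuleCat.{u} A))) (hT : T ∈ distTriang _) (i : ℤ)
    (h : Subsingleton (Dual.HD A T.obj₃ i)) :
    Epi ((DerivedCategory.homologyFunctor (ModuleCat.{u} A) i).map T.mor₁) :=
  (DerivedCategory.HomologySequence.epi_homologyMap_mor₁_iff T hT i).2
    ((@ModuleCat.isZero_of_subsingleton _ _ _ h).eq_of_tgt _ _)

theorem homology_mor₁_mono (T : Triangle (DerivedCategory (ModuleCat.{u} A))) (hT : T ∈ distTriang _) (i : ℤ)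
    (h : Subsingleton (Dual.HD A T.obj₃ (i - 1))) :
    Mono ((DerivedCategory.homologyFunctor (ModuleCat.{u} A) i).map T.mor₁) :=
  (DerivedCategory.HomologySequence.mono_homologyMap_mor₁_iff T hT (i - 1) i (by omega)).2
    ((@ModuleCat.isZero_of_subsingleton _ _ _ h).eq_of_src _ _)

end Groth.Agent.DerivedComplete
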