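import Mathlib

/-!
Derived completeness of a module with respect to an element, in elementary form:
the operator `x ↦ (x i - f • x (i + 1))` on sequences is bijective.
-/

namespace Groth.Agent.DerivedComplete

variable {A : Type*} [CommRing A] {M N : Type*} [AddCommGroup M] [Module A M] [AddCommGroup N] [Module A N]

/-- derived completeness with respect to an endomorphism -/
def DCe (φ : M →ₗ[A] M) : Prop := Function.Bijective fun x : ℕ → M => fun i => x i - φ (x (i + 1))

variable (M) in
/-- derived completeness with respect to an element -/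
def DC (f : A) : Prop := DCe (LinearMap.lsmul A M f)

theorem DCe.eq_zero {φ : M →ₗ[A] M} (h : DCe φ) (x : ℕ → M) (hx : ∀ i, x i = φ (x (i + 1))) (i : ℕ) : x i = 0 :=
  congrFun (h.injective (a₁ := x) (a₂ := 0) (funext fun j => by simp [← hx j])) i

theorem DCe.exists_sol {φ : M →ₗ[A] M} (h : DCe φ) (y : ℕ → M) : ∃ x : ℕ → M, ∀ i, x i = y i + φ (x (i + 1)) := by
  obtain ⟨x, hx⟩ := h.surjective y
  exact ⟨x, fun i => sub_eq_iff_eq_add.1 (congrFun hx i)⟩

theorem DCe.mk' {φ : M →ₗ[A] M} (h₁ : ∀ x : ℕ → M, (∀ i, x i = φ (x (i + 1))) → ∀ i, x i = 0)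
    (h₂ : ∀ y : ℕ → M, ∃ x : ℕ → M, ∀ i, x i = y i + φ (x (i + 1))) : DCe φ := by
  refine ⟨fun a b hab => funext fun i => sub_eq_zero.1 (h₁ (a - b) (fun j => ?_) i), fun y => ?_⟩
  · have := congrFun hab j
    simp only [Pi.sub_apply, map_sub] at this ⊢
    linear_combination (norm := abel) this
  · obtain ⟨x, hx⟩ := h₂ y
    exact ⟨x, funext fun i => sub_eq_iff_eq_add.2 (hx i)⟩

theorem DCe.of_equiv {φ : M →ₗ[A] M} {ψ : N →ₗ[A] N} (h : DCe φ) (e : M ≃ₗ[A] N)
    (he : ∀ m, e (φ m) = ψ (e m)) : DCe ψ := by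
  refine DCe.mk' (fun x hx i => e.symm.injective ((h.eq_zero (fun j => e.symm (x j)) (fun j => ?_) i).trans (map_zero _).symm))
    fun y => ?_
  · apply e.injective
    rw [he]; simp [← hx j]
  · obtain ⟨x, hx⟩ := h.exists_sol fun i => e.symm (y i)
    exact ⟨fun i => e (x i), fun i => by show e (x i) = _; rw [hx i, map_add, he, e.apply_symm_apply]⟩

theorem DC.of_equiv {f : A} (h : DC M f) (e : M ≃ₗ[A] N) : DC N f := DCe.of_equiv h e fun m => by simp

theorem dce_of_subsingleton [Subsingleton M] (φ : M →ₗ[A] M) : DCe φ :=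
  ⟨Function.injective_of_subsingleton _, fun y => ⟨y, Subsingleton.elim _ _⟩⟩

section maps

variable {φ : M →ₗ[A] M} {ψ : N →ₗ[A] N} (u : M →ₗ[A] N) (hu : ∀ m, u (φ m) = ψ (u m))

include hu in
theorem DCe.ker (hM : DCe φ) (hN : DCe ψ) :
    DCe (φ.restrict (p := LinearMap.ker u) (q := LinearMap.ker u) fun m hm => by
      rw [LinearMap.mem_ker] at hm ⊢; rw [hu, hm, map_zero]) := by
  refine DCe.mk' (fun x hx i => Subtype.ext (hM.eq_zero (fun j => (x j : M)) (fun j => congrArg Subtype.val (hx j)) i))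
    fun y => ?_
  obtain ⟨x, hx⟩ := hM.exists_sol fun i => (y i : M)
  have h0 : ∀ i, u (x i) = 0 := fun i => hN.eq_zero (fun j => u (x j)) (fun j => by
    show u (x j) = ψ (u (x (j + 1)))
    rw [hx j, map_add, LinearMap.mem_ker.1 (y j).2, zero_add, hu]) i
  exact ⟨fun i => ⟨x i, h0 i⟩, fun i => Subtype.ext (hx i)⟩

include hu in
theorem DCe.coker (hM : DCe φ) (hN : DCe ψ) :
    DCe ((LinearMap.range u).mapQ (LinearMap.range u) ψ fun n ⟨m, hm⟩ => ⟨φ m, by rw [hu, hm]⟩) := by
  refine DCe.mk' (fun x hx i => ?_) fun y => ?_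
  · choose x' hx' using fun j => Submodule.Quotient.mk_surjective (LinearMap.range u) (x j)
    have h : ∀ j, x' j - ψ (x' (j + 1)) ∈ LinearMap.range u := fun j => by
      rw [← Submodule.Quotient.mk_eq_zero, Submodule.Quotient.mk_sub, hx', sub_eq_zero, hx j, ← hx' (j + 1)]
      rfl
    choose m hm using h
    obtain ⟨m', hm'⟩ := hM.exists_sol m
    have h0 : ∀ j, x' j - u (m' j) = 0 := hN.eq_zero (fun j => x' j - u (m' j)) fun j => by
      show x' j - u (m' j) = ψ (x' (j + 1) - u (m' (j + 1)))
      rw [hm' j, map_add, hm j, hu, map_sub]; abel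
    rw [← hx' i, Submodule.Quotient.mk_eq_zero, sub_eq_zero.1 (h0 i)]
    exact ⟨m' i, rfl⟩
  · choose y' hy' using fun j => Submodule.Quotient.mk_surjective (LinearMap.range u) (y j)
    obtain ⟨x, hx⟩ := hN.exists_sol y'
    exact ⟨fun i => Submodule.Quotient.mk (x i), fun i => by
      rw [← hy' i]; exact congrArg Submodule.Quotient.mk (hx i)⟩

end maps

theorem DC.ker {f : A} (u : M →ₗ[A] N) (hM : DC M f) (hN : DC N f) : DC (LinearMap.ker u) f :=
  DCe.ker (φ := LinearMap.lsmul A M f) u (fun m => by simp) hM hN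

theorem DC.coker {f : A} (u : M →ₗ[A] N) (hM : DC M f) (hN : DC N f) : DC (N ⧸ LinearMap.range u) f := by
  refine DCe.of_equiv (DCe.coker (φ := LinearMap.lsmul A M f) (ψ := LinearMap.lsmul A N f) u (fun m => by simp) hM hN)
    (LinearEquiv.refl A _) fun m => ?_
  induction m using Submodule.Quotient.induction_on with
  | _ n => rfl

theorem DC.range {f : A} (u : M →ₗ[A] N) (hM : DC M f) (hN : DC N f) : DC (LinearMap.range u) f :=
  (DC.coker (LinearMap.ker u).subtype (DC.ker u hM hN) hM).of_equiv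
    ((Submodule.quotEquivOfEq _ _ (Submodule.range_subtype _)).trans u.quotKerEquivRange)

theorem DC.of_extension {f : A} (M₁ : Submodule A M) (h₁ : DC M₁ f) (h₃ : DC (M ⧸ M₁) f) : DC M f := by
  refine DCe.mk' (fun x hx i => ?_) fun y => ?_
  · have h : ∀ j, x j ∈ M₁ := fun j => (Submodule.Quotient.mk_eq_zero M₁).1
      (DCe.eq_zero h₃ (fun k => Submodule.Quotient.mk (x k)) (fun k => congrArg Submodule.Quotient.mk (hx k)) j)
    exact congrArg Subtype.val (DCe.eq_zero h₁ (fun j => ⟨x j, h j⟩) (fun j => Subtype.ext (hx j)) i)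
  · obtain ⟨xb, hxb⟩ := DCe.exists_sol h₃ fun j => Submodule.Quotient.mk (y j)
    choose x hx using fun j => Submodule.Quotient.mk_surjective M₁ (xb j)
    have h : ∀ j, y j + f • x (j + 1) - x j ∈ M₁ := fun j => by
      rw [← Submodule.Quotient.mk_eq_zero, Submodule.Quotient.mk_sub, Submodule.Quotient.mk_add,
        Submodule.Quotient.mk_smul, hx, hx, sub_eq_zero]
      exact (hxb j).symm
    obtain ⟨z, hz⟩ := DCe.exists_sol h₁ fun j => ⟨_, h j⟩
    refine ⟨fun j => x j + (z j : M), fun j => ?_⟩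
    show x j + (z j : M) = y j + f • (x (j + 1) + (z (j + 1) : M))
    rw [hz j, smul_add]
    simp only [Submodule.coe_add, LinearMap.lsmul_apply, Submodule.coe_smul]
    abel

theorem DCe.pi {ι : Type*} {M : ι → Type*} [∀ k, AddCommGroup (M k)] [∀ k, Module A (M k)]
    {φ : ∀ k, M k →ₗ[A] M k} (h : ∀ k, DCe (φ k)) : DCe (LinearMap.pi fun k => (φ k).comp (LinearMap.proj k)) := by
  refine DCe.mk' (fun x hx i => funext fun k => (h k).eq_zero (fun j => x j k) (fun j => congrFun (hx j) k) i) fun y => ?_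
  choose x hx using fun k => (h k).exists_sol fun j => y j k
  exact ⟨fun j k => x k j, fun j => funext fun k => hx k j⟩

theorem DC.pi {ι : Type*} {M : ι → Type*} [∀ k, AddCommGroup (M k)] [∀ k, Module A (M k)] {f : A}
    (h : ∀ k, DC (M k) f) : DC (∀ k, M k) f :=
  DCe.of_equiv (DCe.pi h) (LinearEquiv.refl A _) fun _ => rfl

/-- multiples -/
theorem DCe.comp {φ a : M →ₗ[A] M} (h : DCe φ) (hc : ∀ m, a (φ m) = φ (a m)) : DCe (a.comp φ) := by
  have hiter : ∀ (j : ℕ) (m : M), (a^[j]) (φ m) = φ ((a^[j]) m) := fun j => by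
    induction j with
    | zero => intro m; rfl
    | succ j ih => intro m; rw [Function.iterate_succ_apply', ih, hc, Function.iterate_succ_apply']
  have hadd : ∀ (j : ℕ) (m m' : M), (a^[j]) (m + m') = (a^[j]) m + (a^[j]) m' := fun j => by
    induction j with
    | zero => intro m m'; rfl
    | succ j ih => intro m m'; simp only [Function.iterate_succ_apply', ih, map_add]
  refine DCe.mk' (fun x hx i => ?_) fun y => ?_
  · have := h.eq_zero (fun j => (a^[j]) (x (i + j))) (fun j => ?_) 0
    · exact this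
    · show (a^[j]) (x (i + j)) = φ ((a^[j + 1]) (x (i + (j + 1))))
      rw [hx (i + j), LinearMap.comp_apply, ← Function.iterate_succ_apply, hiter, ← add_assoc]
  · choose z hz using fun k => h.exists_sol fun j => (a^[j]) (y (k + j))
    refine ⟨fun k => z k 0, fun k => ?_⟩
    let w : ℕ → M := fun j => Nat.rec (y k + φ (a (z (k + 1) 0))) (fun i _ => a (z (k + 1) i)) j
    have hw : ∀ j, w j = (a^[j]) (y (k + j)) + φ (w (j + 1)) := fun j => by
      cases j with
      | zero => rfl
      | succ j =>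
        show a (z (k + 1) j) = _
        rw [hz (k + 1) j, map_add, hc, Function.iterate_succ_apply', show k + (j + 1) = k + 1 + j by omega]
    have h0 : z k 0 - w 0 = 0 := h.eq_zero (fun j => z k j - w j) (fun j => by
      show z k j - w j = φ (z k (j + 1) - w (j + 1))
      rw [hz k j, hw j, map_sub]; abel) 0
    show z k 0 = y k + a (φ (z (k + 1) 0))
    rw [hc, sub_eq_zero.1 h0]
    rfl

theorem DC.mul {f : A} (h : DC M f) (a : A) : DC M (a * f) := by
  refine DCe.of_equiv (DCe.comp (a := LinearMap.lsmul A M a) h fun m => smul_comm a f m) (LinearEquiv.refl A M) fun m => ?_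
  exact (mul_smul a f m).symm

theorem DCe.bijective_one_sub {φ : M →ₗ[A] M} (h : DCe φ) : Function.Bijective fun m => m - φ m := by
  refine ⟨fun a b hab => sub_eq_zero.1 (h.eq_zero (fun _ => a - b) (fun _ => ?_) 0), fun y => ?_⟩
  · simp only at hab ⊢
    rw [map_sub]
    linear_combination (norm := abel) hab
  · obtain ⟨x, hx⟩ := h.exists_sol fun _ => y
    have hc : ∀ i, x (i + 1) - x i = 0 := h.eq_zero (fun i => x (i + 1) - x i) fun i => by
      show x (i + 1) - x i = φ (x (i + 1 + 1) - x (i + 1))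
      conv_lhs => rw [hx (i + 1), hx i]
      rw [map_sub]; abel
    refine ⟨x 0, ?_⟩
    show x 0 - φ (x 0) = y
    nth_rewrite 1 [hx 0]
    rw [sub_eq_zero.1 (hc 0)]
    abel

theorem subsingleton_of_bijective {φ : M →ₗ[A] M} (h : DCe φ) (hs : Function.Surjective φ) : Subsingleton M := by
  refine subsingleton_of_forall_eq 0 fun m => ?_
  let x : ℕ → M := fun j => Nat.rec m (fun _ p => Function.surjInv hs p) j
  exact h.eq_zero x (fun j => (Function.surjInv_eq hs (x j)).symm) 0

theorem DC.subsingleton_of_add {Z : Type*} [AddCommGroup Z] [Module A Z] {f g : A} (hf : DC Z f) (hg : DC Z g)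
    (hu : Function.Bijective fun z : Z => (f + g) • z) : Subsingleton Z := by
  let e : Z ≃ₗ[A] Z := LinearEquiv.ofBijective (LinearMap.lsmul A Z (f + g)) hu
  have he : ∀ z, (f + g) • e.symm z = z := e.apply_symm_apply
  let a : Z →ₗ[A] Z := e.symm.toLinearMap
  have h₁ : DCe (a.comp (LinearMap.lsmul A Z f)) := hf.comp fun m => map_smul a f m
  have h₂ : DCe (a.comp (LinearMap.lsmul A Z g)) := hg.comp fun m => map_smul a g m
  refine subsingleton_of_bijective h₂ fun y => ?_
  obtain ⟨z, rfl⟩ := h₁.bijective_one_sub.surjective y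
  refine ⟨z, ?_⟩
  show a (g • z) = z - a (f • z)
  rw [eq_sub_iff_add_eq, ← map_add, ← add_smul, add_comm g f]
  exact e.symm_apply_apply z

/-- sums -/
theorem DC.add {f g : A} (hf : DC M f) (hg : DC M g) : DC M (f + g) := by
  let T : (ℕ → M) →ₗ[A] (ℕ → M) :=
    LinearMap.pi fun i => LinearMap.proj i - (f + g) • LinearMap.proj (i + 1)
  have hT : ∀ x i, T x i = x i - (f + g) • x (i + 1) := fun x i => rfl
  let S : (ℕ → M) →ₗ[A] (ℕ → M) := LinearMap.funLeft A M (fun i => i + 1)
  have hk : Subsingleton (LinearMap.ker T) := by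
    refine (DC.ker T (DC.pi fun _ => hf) (DC.pi fun _ => hf)).subsingleton_of_add
      (DC.ker T (DC.pi fun _ => hg) (DC.pi fun _ => hg)) ⟨fun a b hab => ?_, fun b => ?_⟩
    · refine Subtype.ext (funext fun i => ?_)
      have h₁ := congrFun (LinearMap.mem_ker.1 a.2) i
      have h₂ := congrFun (LinearMap.mem_ker.1 b.2) i
      rw [hT, Pi.zero_apply, sub_eq_zero] at h₁ h₂
      rw [h₁, h₂]
      exact congrArg (fun z : LinearMap.ker T => (z : ℕ → M) (i + 1)) hab
    · refine ⟨⟨S b.1, LinearMap.mem_ker.2 (funext fun i => congrFun (LinearMap.mem_ker.1 b.2) (i + 1))⟩,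
        Subtype.ext (funext fun i => ?_)⟩
      have h₂ := congrFun (LinearMap.mem_ker.1 b.2) i
      rw [hT, Pi.zero_apply, sub_eq_zero] at h₂
      exact h₂.symm
  have hc : Subsingleton ((ℕ → M) ⧸ LinearMap.range T) := by
    refine (DC.coker T (DC.pi fun _ => hf) (DC.pi fun _ => hf)).subsingleton_of_add
      (DC.coker T (DC.pi fun _ => hg) (DC.pi fun _ => hg)) ⟨fun a b hab => ?_, fun b => ?_⟩
    · revert hab
      refine Submodule.Quotient.induction_on _ a fun a => Submodule.Quotient.induction_on _ b fun b hab => ?_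
      simp only [← Submodule.Quotient.mk_smul, Submodule.Quotient.eq] at hab ⊢
      obtain ⟨t, ht⟩ := hab
      refine ⟨S t + (a - b), funext fun i => ?_⟩
      have := congrFun ht (i + 1)
      rw [hT] at this
      rw [hT]
      simp only [S, Pi.add_apply, Pi.sub_apply, Pi.smul_apply, LinearMap.funLeft_apply, smul_add, smul_sub] at this ⊢
      linear_combination (norm := abel) this
    · refine Submodule.Quotient.induction_on _ b fun b => ⟨Submodule.Quotient.mk (S b), ?_⟩
      show (f + g) • Submodule.Quotient.mk (S b) = _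
      rw [← Submodule.Quotient.mk_smul, Submodule.Quotient.eq]
      refine ⟨-b, funext fun i => ?_⟩
      rw [hT]
      simp only [S, Pi.sub_apply, Pi.neg_apply, Pi.smul_apply, LinearMap.funLeft_apply, smul_neg]
      abel
  refine ⟨fun a b hab => sub_eq_zero.1 ?_, fun y => ?_⟩
  · have h0 : a - b ∈ LinearMap.ker T := LinearMap.mem_ker.2 (funext fun i => by
      have := congrFun hab i
      simp only [LinearMap.lsmul_apply] at this
      rw [hT]
      simp only [Pi.sub_apply, smul_sub, Pi.zero_apply]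
      linear_combination (norm := abel) this)
    exact congrArg Subtype.val (Subsingleton.elim (⟨a - b, h0⟩ : LinearMap.ker T) 0)
  · obtain ⟨x, hx⟩ := (Submodule.Quotient.mk_eq_zero (LinearMap.range T)).1 (Subsingleton.elim (Submodule.Quotient.mk y) 0)
    exact ⟨x, funext fun i => congrFun hx i⟩

theorem dc_zero : DC M (0 : A) :=
  DCe.mk' (fun x hx i => by simpa using hx i) fun y => ⟨y, fun i => by simp⟩

/-- roots -/
theorem DC.of_pow {f : A} {m : ℕ} (hm : 0 < m) (h : DC M (f ^ m)) : DC M f := by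
  have hit : ∀ (x : ℕ → M), (∀ i, x i = f • x (i + 1)) → ∀ n i, x i = f ^ n • x (i + n) := fun x hx n => by
    induction n with
    | zero => intro i; simp
    | succ n ih => intro i; rw [ih i, hx (i + n), smul_smul, ← pow_succ, add_assoc]
  refine DCe.mk' (fun x hx i => ?_) fun y => ?_
  · have := DCe.eq_zero h (fun j => x (i + m * j)) (fun j => ?_) 0
    · simpa using this
    · show x (i + m * j) = f ^ m • x (i + m * (j + 1))
      rw [mul_add, mul_one, ← add_assoc]
      exact hit x hx m _
  · choose z hz using fun k => DCe.exists_sol h fun i => ∑ j ∈ Finset.range m, f ^ j • y (k + m * i + j)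
    simp only [LinearMap.lsmul_apply] at hz
    refine ⟨fun k => z k 0, fun k => ?_⟩
    let w : ℕ → M := fun i => y (k + m * i) + f • z (k + 1) i
    have hw : ∀ i, w i = (∑ j ∈ Finset.range m, f ^ j • y (k + m * i + j)) + f ^ m • w (i + 1) := fun i => by
      obtain ⟨m', rfl⟩ : ∃ m', m = m' + 1 := ⟨m - 1, by omega⟩
      have e₁ : ∀ j, k + 1 + (m' + 1) * i + j = k + (m' + 1) * i + (j + 1) := fun j => by omega
      simp only [w]
      rw [hz (k + 1) i, Finset.sum_range_succ' (fun j => f ^ j • y (k + (m' + 1) * i + j)), Finset.sum_range_succ,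
        smul_add, smul_add, Finset.smul_sum]
      simp only [e₁, smul_smul, ← pow_succ', pow_zero, one_smul, add_zero]
      rw [smul_add, show k + (m' + 1) * i + (m' + 1) = k + (m' + 1) * (i + 1) by ring, smul_smul,
        ← pow_succ]
      abel
    have h0 : z k 0 - w 0 = 0 := DCe.eq_zero h (fun i => z k i - w i) (fun i => by
      show z k i - w i = f ^ m • (z k (i + 1) - w (i + 1))
      rw [hz k i, hw i, smul_sub]; abel) 0
    show z k 0 = y k + f • z (k + 1) 0
    rw [sub_eq_zero.1 h0]
    simp [w]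

variable (A M) in
/-- the ideal of elements with respect to which a module is derived complete -/
def dcIdeal : Ideal A where
  carrier := {f | DC M f}
  zero_mem' := dc_zero
  add_mem' := DC.add
  smul_mem' := fun a _ h => DC.mul h a

theorem isRadical_dcIdeal : (dcIdeal A M).IsRadical := fun f ⟨n, hn⟩ => by
  rcases Nat.eq_zero_or_pos n with rfl | hp
  · show DC M f
    simpa [mul_one] using DC.mul (show DC M (f ^ 0) from hn) f
  · exact DC.of_pow hp hn

/-- complete with respect to all elements of an ideal -/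
def DCI (I : Ideal A) (M : Type*) [AddCommGroup M] [Module A M] : Prop := ∀ f ∈ I, DC M f

theorem dci_span_iff (s : Set A) : DCI (Ideal.span s) M ↔ ∀ f ∈ s, DC M f :=
  ⟨fun h f hf => h f (Ideal.subset_span hf), fun h => Ideal.span_le (I := dcIdeal A M).2 h⟩

end Groth.Agent.DerivedComplete
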