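import Groth.Agent.DerivedComplete.Sequences

/-!
Derived completion with respect to finitely many elements: construction and amplitude.
-/

universe u

open CategoryTheory Limits HomologicalComplex Pretriangulated CochainComplex

attribute [local instance] HasDerivedCategory.standard

namespace Groth.Agent.DerivedComplete

variable {A : Type u} [CommRing A]

theorem dce_homologyMap (K : DRing.Cx A) (τ : K ⟶ K) (h : ∀ n, DCe (τ.f n).hom) (n : ℤ) :
    DCe (homologyMap τ n).hom := by
  have hi : (ComplexShape.up ℤ).prev n = n - 1 := by simp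
  have hk : (ComplexShape.up ℤ).next n = n + 1 := by simp
  have hd : ∀ p q (z : K.X p), (K.d p q).hom ((τ.f p).hom z) = (τ.f q).hom ((K.d p q).hom z) := fun p q z =>
    (ConcreteCategory.congr_hom (τ.comm p q) z)
  refine DCe.mk' (fun x hx i => ?_) fun y => ?_
  · choose z hz using fun i => W4cx.Elem.π_surjective (x i)
    have h1 : ∀ i, (K.homologyπ n).hom (z i - (cyclesMap τ n).hom (z (i + 1))) = 0 := fun i => by
      rw [map_sub, hz, ← W4cx.Elem.map_π, hz, sub_eq_zero]
      exact hx i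
    choose w hw using fun i => (W4cx.Elem.π_eq_zero_iff hi _).1 (h1 i)
    obtain ⟨v, hv⟩ := (h (n - 1)).exists_sol w
    rw [← hz i, W4cx.Elem.π_eq_zero_iff hi]
    refine ⟨v i, (sub_eq_zero.1 ((h n).eq_zero (fun i => (K.iCycles n).hom (z i) - (K.d (n - 1) n).hom (v i))
      (fun i => ?_) i)).symm⟩
    show (K.iCycles n).hom (z i) - (K.d (n - 1) n).hom (v i) =
      (τ.f n).hom ((K.iCycles n).hom (z (i + 1)) - (K.d (n - 1) n).hom (v (i + 1)))
    rw [map_sub, hv i, map_add, hw i, hd, map_sub, W4cx.Elem.iCycles_map]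
    abel
  · choose z hz using fun i => W4cx.Elem.π_surjective (y i)
    obtain ⟨x, hx⟩ := (h n).exists_sol fun i => (K.iCycles n).hom (z i)
    have hc : ∀ i, (K.d n (n + 1)).hom (x i) = 0 := (h (n + 1)).eq_zero _ fun i => by
      rw [hx i, map_add, W4cx.Elem.d_iCycles, zero_add, hd]
    choose c hc' using fun i => W4cx.Elem.exists_cycle hk (x i) (hc i)
    refine ⟨fun i => (K.homologyπ n).hom (c i), fun i => ?_⟩
    show (K.homologyπ n).hom (c i) = y i + (homologyMap τ n).hom ((K.homologyπ n).hom (c (i + 1)))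
    rw [W4cx.Elem.map_π, ← hz i, ← map_add]
    refine congrArg _ (W4cx.Elem.iCycles_injective ?_)
    rw [map_add, W4cx.Elem.iCycles_map, hc', hc']
    exact hx i

/-- the completion of a complex with respect to one element -/
noncomputable abbrev stepCx (f : A) (W : DRing.Cx A) : DRing.Cx A :=
  mappingCone (onCx (seqSigma f) W)

/-- the map to the completion -/
noncomputable def stepη (f : A) (W : DRing.Cx A) : W ⟶ stepCx f W :=
  (Functor.mapHomologicalComplexIdIso (ModuleCat.{u} A) (ComplexShape.up ℤ)).inv.app W ≫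
    onCx seqInit W ≫ mappingCone.inr _

theorem onCx_seqSigma_seqShift (f : A) (W : DRing.Cx A) :
    onCx (seqSigma f) W ≫ onCx seqShift W = onCx seqShift W ≫ onCx (seqSigma f) W := by
  ext n : 1
  refine ModuleCat.hom_ext (LinearMap.ext fun x => funext fun i => ?_)
  cases i with
  | zero =>
    show (0 : W.X n) = (0 : W.X n) - f • (0 : W.X n)
    rw [smul_zero, sub_zero]
  | succ j => rfl

theorem dc_homology_stepCx (f : A) (W : DRing.Cx A) (n : ℤ) : DC ((stepCx f W).homology n) f := by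
  let σ := onCx (seqSigma f) W
  let s := onCx (seqShift (A := A)) W
  let τ : stepCx f W ⟶ stepCx f W := mappingCone.map σ σ s s (onCx_seqSigma_seqShift f W)
  have he : ∀ p q (h : p + 1 = q) (z : (stepCx f W).X p),
      ((mappingCone.inl σ).v q p (by omega)).hom (((mappingCone.fst σ).1.v p q h).hom z) +
        ((mappingCone.inr σ).f p).hom (((mappingCone.snd σ).v p p (add_zero p)).hom z) = z := fun p q h z =>
    by simpa using (ConcreteCategory.congr_hom (mappingCone.id_X σ p q h) z)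
  have hτl : ∀ p q (h : p + (-1) = q) (a : (seqCx W).X p),
      (τ.f q).hom (((mappingCone.inl σ).v p q h).hom a) =
        ((mappingCone.inl σ).v p q h).hom ((s.f p).hom a) := fun p q h a => by
    have e : (mappingCone.inl σ).v p q h ≫ τ.f q = s.f p ≫ (mappingCone.inl σ).v p q h := by
      simp [τ, mappingCone.map]
    exact ConcreteCategory.congr_hom e a
  have hτr : ∀ q (b : (seqCx W).X q),
      (τ.f q).hom (((mappingCone.inr σ).f q).hom b) = ((mappingCone.inr σ).f q).hom ((s.f q).hom b) := fun q b => by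
    have e : (mappingCone.inr σ).f q ≫ τ.f q = s.f q ≫ (mappingCone.inr σ).f q := by
      simp [τ, mappingCone.map]
    exact ConcreteCategory.congr_hom e b
  have hdc : ∀ p, DCe (τ.f p).hom := fun p => by
    let e : ((stepCx f W).X p : Type u) → ((seqCx W).X (p + 1) : Type u) × ((seqCx W).X p : Type u) := fun z =>
      (((mappingCone.fst σ).1.v p (p + 1) rfl).hom z, ((mappingCone.snd σ).v p p (add_zero p)).hom z)
    have hl := fun a : (seqCx W).X (p + 1) => ConcreteCategory.congr_hom (mappingCone.inl_v_fst_v σ (p + 1) p rfl) a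
    have hl' := fun a : (seqCx W).X (p + 1) => ConcreteCategory.congr_hom (mappingCone.inl_v_snd_v σ (p + 1) p (by omega)) a
    have hr := fun b : (seqCx W).X p => ConcreteCategory.congr_hom (mappingCone.inr_f_fst_v σ p (p + 1) rfl) b
    have hr' := fun b : (seqCx W).X p => ConcreteCategory.congr_hom (mappingCone.inr_f_snd_v σ p) b
    simp only [ModuleCat.hom_comp, LinearMap.comp_apply, ModuleCat.hom_id, LinearMap.id_apply, ModuleCat.hom_zero,
      LinearMap.zero_apply] at hl hl' hr hr'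
    have hs : ∀ z, e ((τ.f p).hom z) = ((s.f (p + 1)).hom (e z).1, (s.f p).hom (e z).2) := fun z => by
      conv_lhs => rw [← he p (p + 1) rfl z]
      rw [map_add, hτl, hτr]
      simp only [e, map_add]
      erw [hl, hl', hr, hr']
      simp
    have he' : ∀ z z', e z = e z' → z = z' := fun z z' hzz => by
      rw [← he p (p + 1) rfl z, ← he p (p + 1) rfl z']
      simp only [e, Prod.mk.injEq] at hzz
      rw [hzz.1, hzz.2]
    refine DCe.mk' (fun x hx i => he' _ 0 ?_) fun y => ?_
    · have hx' := fun j => (congrArg e (hx j)).trans (hs (x (j + 1)))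
      simp only [e, map_zero, Prod.mk.injEq] at hx' ⊢
      exact ⟨(dce_seqShift (W.X (p + 1))).eq_zero _ (fun j => (hx' j).1) i,
        (dce_seqShift (W.X p)).eq_zero _ (fun j => (hx' j).2) i⟩
    · obtain ⟨a, ha⟩ := (dce_seqShift (W.X (p + 1))).exists_sol fun i => (e (y i)).1
      obtain ⟨b, hb⟩ := (dce_seqShift (W.X p)).exists_sol fun i => (e (y i)).2
      refine ⟨fun i => ((mappingCone.inl σ).v (p + 1) p (by omega)).hom (a i) + ((mappingCone.inr σ).f p).hom (b i),
        fun i => ?_⟩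
      show _ + _ = y i + (τ.f p).hom (_ + _)
      rw [map_add, hτl, hτr]
      conv_rhs => rw [← he p (p + 1) rfl (y i)]
      rw [show a i = _ from ha i, show b i = _ from hb i]
      erw [map_add, map_add]
      exact add_add_add_comm _ _ _ _
  refine DCe.of_equiv (dce_homologyMap _ τ hdc n) (LinearEquiv.refl A _) fun c => ?_
  obtain ⟨z, rfl⟩ := W4cx.Elem.π_surjective c
  show (homologyMap τ n).hom _ = f • ((stepCx f W).homologyπ n).hom z
  rw [W4cx.Elem.map_π, ← map_smul, ← sub_eq_zero, ← map_sub,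
    W4cx.Elem.π_eq_zero_iff (show (ComplexShape.up ℤ).prev n = n - 1 by simp)]
  obtain ⟨x, hx⟩ : ∃ x, ((stepCx f W).iCycles n).hom z = x := ⟨_, rfl⟩
  let a := ((mappingCone.fst σ).1.v n (n + 1) rfl).hom x
  let b := ((mappingCone.snd σ).v n n (add_zero n)).hom x
  have hcyc : ((stepCx f W).d n (n + 1)).hom x = 0 := hx ▸ W4cx.Elem.d_iCycles z _
  have h2 : (σ.f (n + 1)).hom a + ((seqCx W).d n (n + 1)).hom b = 0 :=
    (ConcreteCategory.congr_hom (mappingCone.d_snd_v σ n (n + 1) rfl) x).symm.trans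
      ((congrArg ((mappingCone.snd σ).v (n + 1) (n + 1) (add_zero _)).hom hcyc).trans (map_zero _))
  refine ⟨((mappingCone.inl σ).v n (n - 1) (by omega)).hom b, ?_⟩
  refine (ConcreteCategory.congr_hom (mappingCone.inl_v_d σ n (n - 1) (n + 1) (by omega) (by omega)) b).trans ?_
  rw [map_sub, map_smul, W4cx.Elem.iCycles_map, hx]
  show ((mappingCone.inr σ).f n).hom ((σ.f n).hom b) -
    ((mappingCone.inl σ).v (n + 1) n (by omega)).hom (((seqCx W).d n (n + 1)).hom b) = (τ.f n).hom x - f • x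
  conv_rhs => rw [← he n (n + 1) rfl x]
  rw [map_add, hτl, hτr, eq_neg_of_add_eq_zero_right h2, map_neg, sub_neg_eq_add]
  show ((mappingCone.inr σ).f n).hom ((s.f n).hom b - f • b) +
    ((mappingCone.inl σ).v (n + 1) n (by omega)).hom ((s.f (n + 1)).hom a - f • a) = _
  rw [map_sub, map_sub, map_smul, map_smul, smul_add]
  abel

/-- the triangle of the completion -/
noncomputable abbrev stepTriangle (f : A) (W : DRing.Cx A) : Triangle (Dual.D A) :=
  DerivedCategory.Q.mapTriangle.obj (mappingCone.triangle (onCx (seqSigma f) W))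

theorem stepTriangle_distinguished (f : A) (W : DRing.Cx A) : stepTriangle f W ∈ distTriang _ :=
  (DerivedCategory.mem_distTriang_iff _).2 ⟨_, _, onCx (seqSigma f) W, ⟨Iso.refl _⟩⟩

theorem dc_shift (L : Dual.D A) {f : A} (hL : ∀ n : ℤ, DC (Dual.HD A L n) f) (k n : ℤ) :
    DC (Dual.HD A (L⟦k⟧) n) f :=
  (hL (k + n)).of_equiv
    (((DerivedCategory.homologyFunctor (ModuleCat.{u} A) 0).shiftIso k n (k + n) rfl).app L).symm.toLinearEquiv

theorem bijective_stepη_comp (f : A) (W : DRing.Cx A) (hW : ∀ n, Injective (W.X n))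
    (L : DerivedCategory (ModuleCat.{u} A)) (hL : ∀ n : ℤ, DC (Dual.HD A L n) f) :
    Function.Bijective (fun φ : DerivedCategory.Q.obj (stepCx f W) ⟶ L => DerivedCategory.Q.map (stepη f W) ≫ φ) := by
  let ι := (Functor.mapHomologicalComplexIdIso (ModuleCat.{u} A) (ComplexShape.up ℤ)).app W
  let i₀ : W ⟶ seqCx W := ι.inv ≫ onCx seqInit W
  let p₀ : seqCx W ⟶ W := onCx (seqProj 0) W ≫ ι.hom
  let dr : seqCx W ⟶ seqCx W := onCx seqDrop W
  let sh : seqCx W ⟶ seqCx W := onCx seqShift W
  have e₁ : i₀ ≫ p₀ = 𝟙 W := by ext n : 1; exact ModuleCat.hom_ext (LinearMap.ext fun x => rfl)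
  have e₂ : i₀ ≫ dr = 0 := by ext n : 1; exact ModuleCat.hom_ext (LinearMap.ext fun x => rfl)
  have e₃ : p₀ ≫ i₀ + dr ≫ sh = 𝟙 _ := by
    ext n : 1
    refine ModuleCat.hom_ext (LinearMap.ext fun x => funext fun i => ?_)
    cases i with
    | zero => exact add_zero _
    | succ j => exact zero_add _
  have e₄ : onCx (seqSigma f) W ≫ dr = onCx (seqTel f) W := by
    ext n : 1; exact ModuleCat.hom_ext (LinearMap.ext fun x => rfl)
  let Q := (DerivedCategory.Q : CochainComplex (ModuleCat.{u} A) ℤ ⥤ DerivedCategory (ModuleCat.{u} A))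
  let P : DerivedCategory (ModuleCat.{u} A) := Q.obj (seqCx W)
  let C : DerivedCategory (ModuleCat.{u} A) := Q.obj (stepCx f W)
  let m₁ : P ⟶ P := Q.map (onCx (seqSigma f) W)
  let m₂ : P ⟶ C := Q.map (mappingCone.inr _)
  let m₃ : C ⟶ P⟦(1 : ℤ)⟧ := (stepTriangle f W).mor₃
  have hT : Triangle.mk m₁ m₂ m₃ ∈ distTriang _ := stepTriangle_distinguished f W
  have z₁₂ : m₁ ≫ m₂ = 0 := comp_distTriang_mor_zero₁₂ _ hT
  have z₃₁ : m₃ ≫ m₁⟦(1 : ℤ)⟧' = 0 := comp_distTriang_mor_zero₃₁ _ hT
  have hη : Q.map (stepη f W) = Q.map i₀ ≫ m₂ := by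
    show _ = Q.map i₀ ≫ Q.map (mappingCone.inr _)
    rw [← Q.map_comp]
    exact congrArg Q.map (Category.assoc _ _ _).symm
  have h4 : m₁ ≫ Q.map dr = Q.map (onCx (seqTel f) W) := by
    show Q.map (onCx (seqSigma f) W) ≫ Q.map dr = _
    rw [← Q.map_comp, e₄]
  have hdec : ∀ {Y : DerivedCategory (ModuleCat.{u} A)} (ψ : P ⟶ Y), Q.map i₀ ≫ ψ = 0 →
      ψ = Q.map dr ≫ Q.map sh ≫ ψ := fun {Y} ψ h => by
    refine ((Category.id_comp ψ).symm.trans (congrArg (· ≫ ψ)
      ((Q.map_id (seqCx W)).symm.trans (congrArg Q.map e₃.symm)))).trans ?_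
    rw [Functor.map_add, Q.map_comp p₀ i₀, Q.map_comp dr sh, Preadditive.add_comp, Category.assoc, Category.assoc, h, comp_zero,
      zero_add]
  have hb := bijective_onCx_seqTel_comp f W hW L hL
  refine ⟨fun a b hab => sub_eq_zero.1 ?_, fun g => ?_⟩
  · let ψ : P ⟶ L := m₂ ≫ (a - b)
    have h0 : Q.map i₀ ≫ ψ = 0 := by
      rw [← Category.assoc, ← hη, Preadditive.comp_sub, sub_eq_zero]
      exact hab
    have hχ : Q.map sh ≫ ψ = 0 := hb.injective (by
      show Q.map (onCx (seqTel f) W) ≫ Q.map sh ≫ ψ = Q.map (onCx (seqTel f) W) ≫ (0 : P ⟶ L)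
      rw [comp_zero, ← h4, Category.assoc, ← hdec ψ h0, ← Category.assoc, z₁₂, zero_comp])
    have hψ : ψ = 0 := (hdec ψ h0).trans (by rw [hχ, comp_zero])
    obtain ⟨ω, hω⟩ : ∃ ω : P⟦(1 : ℤ)⟧ ⟶ L, a - b = m₃ ≫ ω := Triangle.yoneda_exact₃ _ hT (a - b) hψ
    let adj := (shiftEquiv' (DerivedCategory (ModuleCat.{u} A)) (1 : ℤ) (-1) (by simp)).toAdjunction
    obtain ⟨ω', hω'⟩ := (bijective_onCx_seqTel_comp f W hW (L⟦(-1 : ℤ)⟧) (dc_shift L hL (-1))).surjective
      (adj.homEquiv P L ω)
    have hω'' : ω = m₁⟦(1 : ℤ)⟧' ≫ (Q.map dr)⟦(1 : ℤ)⟧' ≫ (adj.homEquiv P L).symm ω' := by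
      apply (adj.homEquiv P L).injective
      rw [← Functor.map_comp_assoc, h4]
      refine hω'.symm.trans ?_
      refine Eq.trans ?_ (adj.homEquiv_naturality_left _ _).symm
      rw [Equiv.apply_symm_apply]
      rfl
    rw [hω, hω'', ← Category.assoc, z₃₁, zero_comp]
  · obtain ⟨χ, hχ⟩ : ∃ χ : P ⟶ L, Q.map (onCx (seqTel f) W) ≫ χ = -(m₁ ≫ Q.map p₀ ≫ g) := hb.surjective _
    have h0 : m₁ ≫ (Q.map p₀ ≫ g + Q.map dr ≫ χ) = 0 := by
      rw [Preadditive.comp_add, ← Category.assoc m₁ (Q.map dr), h4, hχ, add_neg_cancel]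
    obtain ⟨φ, hφ⟩ : ∃ φ : C ⟶ L, Q.map p₀ ≫ g + Q.map dr ≫ χ = m₂ ≫ φ := Triangle.yoneda_exact₂ _ hT _ h0
    refine ⟨φ, ?_⟩
    show Q.map (stepη f W) ≫ φ = g
    rw [hη, Category.assoc, ← hφ, Preadditive.comp_add, ← Category.assoc, ← Category.assoc, ← Q.map_comp i₀ p₀,
      e₁, ← Q.map_comp i₀ dr, e₂, Functor.map_zero, zero_comp, add_zero, CategoryTheory.Functor.map_id, Category.id_comp]

theorem dc_middle {f : A} {P₀ P₁ H Q₀ Q₁ : Type u} [AddCommGroup P₀] [AddCommGroup P₁] [AddCommGroup H]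
    [AddCommGroup Q₀] [AddCommGroup Q₁] [Module A P₀] [Module A P₁] [Module A H] [Module A Q₀] [Module A Q₁]
    (u : P₀ →ₗ[A] P₁) (a : P₁ →ₗ[A] H) (b : H →ₗ[A] Q₀) (v : Q₀ →ₗ[A] Q₁)
    (h₁ : Function.Exact u a) (h₂ : Function.Exact a b) (h₃ : Function.Exact b v)
    (hP₀ : DC P₀ f) (hP₁ : DC P₁ f) (hQ₀ : DC Q₀ f) (hQ₁ : DC Q₁ f) : DC H f := by
  refine DC.of_extension (LinearMap.range a) ?_ ?_
  · exact (DC.coker u hP₀ hP₁).of_equiv
      ((Submodule.quotEquivOfEq _ _ h₁.linearMap_ker_eq.symm).trans a.quotKerEquivRange)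
  · exact (DC.ker v hQ₀ hQ₁).of_equiv
      ((LinearEquiv.ofEq _ _ h₃.linearMap_ker_eq).trans
        (b.quotKerEquivRange.symm.trans (Submodule.quotEquivOfEq _ _ h₂.linearMap_ker_eq)))

/-- the cohomology of one completion step, bracketed by sequences -/
theorem stepCx_middle (f : A) (W : DRing.Cx A) (n : ℤ) (g : A)
    (h : ∀ m, DC (W.homology m) g) : DC ((stepCx f W).homology n) g := by
  have hP : ∀ m, DC ((DerivedCategory.homologyFunctor (ModuleCat.{u} A) m).obj (DerivedCategory.Q.obj (seqCx W))) g := fun m => by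
    obtain ⟨e⟩ := exists_homology_seqCx W m
    exact (DC.pi fun _ : ℕ => h m).of_equiv
      (e.symm.trans ((DerivedCategory.homologyFunctorFactors (ModuleCat.{u} A) m).app (seqCx W)).toLinearEquiv.symm)
  have hT := stepTriangle_distinguished f W
  refine DC.of_equiv ?_ ((DerivedCategory.homologyFunctorFactors (ModuleCat.{u} A) n).app (stepCx f W)).toLinearEquiv
  exact dc_middle _ _ _ _
    ((ShortComplex.ShortExact.moduleCat_exact_iff_function_exact _).1 (DerivedCategory.HomologySequence.exact₂ _ hT n))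
    ((ShortComplex.ShortExact.moduleCat_exact_iff_function_exact _).1 (DerivedCategory.HomologySequence.exact₃ _ hT n (n + 1)))
    ((ShortComplex.ShortExact.moduleCat_exact_iff_function_exact _).1 (DerivedCategory.HomologySequence.exact₁ _ hT n (n + 1)))
    (hP n) (hP n) (hP (n + 1)) (hP (n + 1))

theorem stepCx_subsingleton (f : A) (W : DRing.Cx A) (n : ℤ)
    (h₀ : Subsingleton (W.homology n)) (h₁ : Subsingleton (W.homology (n + 1))) :
    Subsingleton ((stepCx f W).homology n) := by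
  have hP : ∀ m, Subsingleton (W.homology m) → IsZero ((DerivedCategory.homologyFunctor (ModuleCat.{u} A) m).obj (DerivedCategory.Q.obj (seqCx W))) :=
    fun m hm => by
      obtain ⟨e⟩ := exists_homology_seqCx W m
      haveI : Subsingleton (ℕ → W.homology m) := inferInstance
      haveI := e.injective.subsingleton
      exact (ModuleCat.isZero_of_subsingleton ((seqCx W).homology m)).of_iso ((DerivedCategory.homologyFunctorFactors (ModuleCat.{u} A) m).app _)
  have hT := stepTriangle_distinguished f W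
  refine ModuleCat.subsingleton_of_isZero
    (IsZero.of_iso ?_ ((DerivedCategory.homologyFunctorFactors (ModuleCat.{u} A) n).app (stepCx f W)).symm)
  exact (DerivedCategory.HomologySequence.exact₃ _ hT n (n + 1)).isZero_of_both_zeros
    ((hP n h₀).eq_of_src _ _) ((hP (n + 1) h₁).eq_of_tgt _ _)

/-- completion with respect to a finite set -/
theorem exists_completion (s : Finset A) (K : Dual.D A) :
    ∃ (C : Dual.D A) (η : K ⟶ C), (∀ g ∈ s, ∀ n, DC (Dual.HD A C n) g) ∧
      (∀ g : A, (∀ n, DC (Dual.HD A K n) g) → ∀ n, DC (Dual.HD A C n) g) ∧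
      (∀ n : ℤ, (∀ i : ℤ, n ≤ i → i ≤ n + s.card → Subsingleton (Dual.HD A K i)) → Subsingleton (Dual.HD A C n)) ∧
      ∀ L : Dual.D A, (∀ g ∈ s, ∀ n, DC (Dual.HD A L n) g) → Function.Bijective (fun φ : C ⟶ L => η ≫ φ) := by
  classical
  induction s using Finset.induction_on with
  | empty =>
    exact ⟨K, 𝟙 K, fun g hg => absurd hg (Finset.notMem_empty g), fun g hg => hg,
      fun n hn => hn n le_rfl (by simp), fun L _ => by simp only [Category.id_comp]; exact Function.bijective_id⟩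
  | insert f t hft ih =>
    obtain ⟨C, η, h₁, h₂, h₃, h₄⟩ := ih
    obtain ⟨X, hX⟩ : ∃ X : DRing.Cx A, Nonempty (DerivedCategory.Q.obj X ≅ C) :=
      ⟨_, ⟨DerivedCategory.Q.objObjPreimageIso C⟩⟩
    obtain ⟨W, j, hW, hj, -, hWi⟩ := KInjRes.exists_kInjective_resolution X
    haveI := hj
    let e : C ≅ DerivedCategory.Q.obj W := hX.some.symm ≪≫ asIso (DerivedCategory.Q.map j)
    let eH : ∀ n, (Dual.HD A C n : Type u) ≃ₗ[A] W.homology n := fun n =>
      (((DerivedCategory.homologyFunctor (ModuleCat.{u} A) n).mapIso e ≪≫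
        (DerivedCategory.homologyFunctorFactors (ModuleCat.{u} A) n).app W)).toLinearEquiv
    let eS : ∀ n, ((stepCx f W).homology n : Type u) ≃ₗ[A] Dual.HD A (DerivedCategory.Q.obj (stepCx f W)) n := fun n =>
      ((DerivedCategory.homologyFunctorFactors (ModuleCat.{u} A) n).app (stepCx f W)).toLinearEquiv.symm
    refine ⟨DerivedCategory.Q.obj (stepCx f W), η ≫ e.hom ≫ DerivedCategory.Q.map (stepη f W), ?_, ?_, ?_, ?_⟩
    · intro g hg n
      refine DC.of_equiv ?_ (eS n)
      rcases Finset.mem_insert.1 hg with rfl | hg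
      · exact dc_homology_stepCx g W n
      · exact stepCx_middle f W n g fun m => (h₁ g hg m).of_equiv (eH m)
    · exact fun g hg n => (stepCx_middle f W n g fun m => (h₂ g hg m).of_equiv (eH m)).of_equiv (eS n)
    · intro n hn
      rw [Finset.card_insert_of_notMem hft] at hn
      haveI := stepCx_subsingleton f W n
        (haveI := h₃ n (fun i a b => hn i a (by omega)); (eH n).symm.injective.subsingleton)
        (haveI := h₃ (n + 1) (fun i a b => hn i (by omega) (by omega)); (eH (n + 1)).symm.injective.subsingleton)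
      exact (eS n).symm.injective.subsingleton
    · intro L hL
      have hc : (fun φ : DerivedCategory.Q.obj (stepCx f W) ⟶ L =>
          (η ≫ e.hom ≫ DerivedCategory.Q.map (stepη f W)) ≫ φ) =
          (fun φ : C ⟶ L => η ≫ φ) ∘ (fun φ => e.hom ≫ φ) ∘
            (fun φ : DerivedCategory.Q.obj (stepCx f W) ⟶ L => DerivedCategory.Q.map (stepη f W) ≫ φ) :=
        funext fun φ => by simp
      rw [hc]
      exact (h₄ L fun g hg => hL g (Finset.mem_insert_of_mem hg)).comp
        (Function.Bijective.comp ⟨fun a b hab => (cancel_epi e.hom).1 hab, fun y => ⟨e.inv ≫ y, by simp⟩⟩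
          (bijective_stepη_comp f W hWi L (hL f (Finset.mem_insert_self f t))))

end Groth.Agent.DerivedComplete
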