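import Groth.Agent.DerivedComplete.Basic
import Groth.Agent.KInjRes.DerivedCat
import Groth.Prelude.Def_DRing3

/-!
Derived completeness through the cohomology modules.
-/

universe u w v

open CategoryTheory Limits Pretriangulated HomologicalComplex

attribute [local instance] HasDerivedCategory.standard

namespace Groth.Agent.DerivedComplete

section hom

variable {C : Type*} [Category C] [Abelian C] [HasDerivedCategory C] (F : C)

/-- evaluation on degree zero cohomology -/
noncomputable def homEval (Y : DerivedCategory C) (φ : (DerivedCategory.singleFunctor C 0).obj F ⟶ Y) :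
    F ⟶ (DerivedCategory.homologyFunctor C 0).obj Y :=
  (DerivedCategory.singleFunctorCompHomologyFunctorIso C 0).inv.app F ≫
    (DerivedCategory.homologyFunctor C 0).map φ

theorem homEval_natural {G : C} (a : F ⟶ G) (Y : DerivedCategory C)
    (φ : (DerivedCategory.singleFunctor C 0).obj G ⟶ Y) :
    homEval F Y ((DerivedCategory.singleFunctor C 0).map a ≫ φ) = a ≫ homEval G Y φ := by
  simp only [homEval, Functor.map_comp, ← Category.assoc]
  congr 1
  exact ((DerivedCategory.singleFunctorCompHomologyFunctorIso C 0).inv.naturality a).symm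

theorem homEval_Q (K : CochainComplex C ℤ) (g : (single C (ComplexShape.up ℤ) 0).obj F ⟶ K) :
    homEval F (DerivedCategory.Q.obj K) (DerivedCategory.Q.map g) ≫
        (DerivedCategory.homologyFunctorFactors C 0).hom.app K =
      (singleObjHomologySelfIso (ComplexShape.up ℤ) 0 F).inv ≫ homologyMap g 0 := by
  refine (Category.assoc _ _ _).trans ((congrArg (_ ≫ ·)
    ((DerivedCategory.homologyFunctorFactors C 0).hom.naturality g)).trans ?_)
  refine (Category.assoc _ _ _).symm.trans (congrArg (· ≫ homologyMap g 0) ?_)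
  rw [← cancel_mono ((singleObjHomologySelfIso (ComplexShape.up ℤ) 0 F).hom), Iso.inv_hom_id]
  refine (Category.assoc _ _ _).trans ?_
  have h := ((DerivedCategory.singleFunctorCompHomologyFunctorIso C 0).app F).inv_hom_id
  refine Eq.trans (congrArg (_ ≫ ·) ?_) h
  simp [DerivedCategory.singleFunctorCompHomologyFunctorIso]
  rw [DerivedCategory.singleFunctorsPostcompQIso_hom_hom]
  simp
  erw [CategoryTheory.Functor.map_id, Category.id_comp, Category.id_comp]
  rfl

theorem bijective_homEval [Projective F] (Y : DerivedCategory C) :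
    Function.Bijective (homEval F Y) := by
  have hK : ∀ K : CochainComplex C ℤ, Function.Bijective (homEval F (DerivedCategory.Q.obj K)) := fun K => by
    let S : CochainComplex C ℤ := (single C (ComplexShape.up ℤ) 0).obj F
    haveI : S.IsKProjective := by
      haveI : ∀ i, Projective (S.X i) := fun i => by
        by_cases h : i = 0
        · subst h; exact Projective.of_iso (singleObjXSelf (ComplexShape.up ℤ) 0 F).symm ‹_›
        · exact (isZero_single_obj_X _ _ _ _ h).projective
      exact CochainComplex.isKProjective_of_projective S 0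
    have hsurj : ∀ φ : DerivedCategory.Q.obj S ⟶ DerivedCategory.Q.obj K, ∃ g, DerivedCategory.Q.map g = φ := by
      intro φ
      let q := HomotopyCategory.quotient C (ComplexShape.up ℤ)
      let e := DerivedCategory.quotientCompQhIso C
      obtain ⟨g, hg⟩ := (CochainComplex.IsKProjective.Qh_map_bijective S (q.obj K)).surjective
        ((e.hom.app S) ≫ φ ≫ e.inv.app K)
      obtain ⟨a, rfl⟩ := q.map_surjective g
      refine ⟨a, ?_⟩
      have := e.hom.naturality a
      change DerivedCategory.Qh.map (q.map a) ≫ e.hom.app K = e.hom.app S ≫ DerivedCategory.Q.map a at this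
      rw [← cancel_epi (e.hom.app S), ← this, hg, Category.assoc, Category.assoc, Iso.inv_hom_id_app]
      exact congrArg _ (Category.comp_id φ)
    let E := fun g : (single C (ComplexShape.up ℤ) 0).obj F ⟶ K => (singleObjHomologySelfIso (ComplexShape.up ℤ) 0 F).inv ≫ homologyMap g 0
    have hE : ∀ g, E g = ((singleObjCyclesSelfIso (ComplexShape.up ℤ) 0 F).inv ≫ cyclesMap g 0) ≫ K.homologyπ 0 :=
      fun g => by
      show _ = _
      rw [Category.assoc, ← homologyπ_naturality]
      simp only [E]
      rw [← singleObjCyclesSelfIso_inv_homologyπ, Category.assoc]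
    refine ⟨fun a b hab => ?_, fun h => ?_⟩
    · obtain ⟨ga, rfl⟩ := hsurj a
      obtain ⟨gb, rfl⟩ := hsurj b
      change (single C (ComplexShape.up ℤ) 0).obj F ⟶ K at ga gb
      have h0 : E (ga - gb) = 0 := by
        simp only [E, homologyMap_sub, Preadditive.comp_sub, sub_eq_zero]
        rw [← homEval_Q, ← homEval_Q]
        exact congrArg (· ≫ _) hab
      rw [hE, comp_homologyπ_eq_zero_iff_up_to_refinements _ (-1) 0 (by simp)] at h0
      obtain ⟨B, p, hp, w, hw⟩ := h0
      let w' : F ⟶ K.X (-1) := Projective.factorThru (𝟙 F) p ≫ w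
      have hw' : w' ≫ K.d (-1) 0 = (singleObjXSelf (ComplexShape.up ℤ) 0 F).inv ≫ (ga - gb).f 0 := by
        have := congrArg (· ≫ K.iCycles 0) hw
        simp only [Category.assoc, cyclesMap_i, toCycles_i, singleObjCyclesSelfIso_inv_iCycles_assoc] at this
        simp only [w', Category.assoc, ← this, Projective.factorThru_comp_assoc, Category.id_comp]
      let γ : CochainComplex.HomComplex.Cochain ((single C (ComplexShape.up ℤ) 0).obj F) K (-1) :=
        CochainComplex.HomComplex.Cochain.fromSingleMk w' (show (0 : ℤ) + -1 = -1 by simp)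
      have hγ : CochainComplex.HomComplex.δ (-1) 0 γ = CochainComplex.HomComplex.Cochain.ofHom (ga - gb) := by
        refine (CochainComplex.HomComplex.Cochain.δ_fromSingleMk _ _ _ 0 (show (0 : ℤ) + 0 = 0 by simp)).trans ?_
        rw [hw']
        apply (CochainComplex.HomComplex.Cochain.fromSingleEquiv (show (0 : ℤ) + 0 = 0 by simp)).injective
        rw [CochainComplex.HomComplex.Cochain.fromSingleEquiv_fromSingleMk]
        show _ = (singleObjXSelf (ComplexShape.up ℤ) 0 F).inv ≫
          (CochainComplex.HomComplex.Cochain.ofHom (ga - gb)).v 0 0 (add_zero 0)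
        rw [CochainComplex.HomComplex.Cochain.ofHom_v]
      have H : Homotopy (ga - gb) 0 := (CochainComplex.HomComplex.Cochain.equivHomotopy _ _).symm
        ⟨γ, by rw [hγ]; simp⟩
      exact sub_eq_zero.1 ((Functor.map_sub (F := DerivedCategory.Q)).symm.trans
        ((DerivedCategory.Q_map_eq_of_homotopy C H).trans (Functor.map_zero _ _ _)))
    · let h' : F ⟶ K.homology 0 := h ≫ (DerivedCategory.homologyFunctorFactors C 0).hom.app K
      let z : F ⟶ K.cycles 0 := Projective.factorThru h' (K.homologyπ 0)
      let g : (single C (ComplexShape.up ℤ) 0).obj F ⟶ K := mkHomFromSingle (z ≫ K.iCycles 0) fun k _ => by simp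
      refine ⟨DerivedCategory.Q.map g, ?_⟩
      rw [← cancel_mono ((DerivedCategory.homologyFunctorFactors C 0).hom.app K), homEval_Q]
      show E g = h'
      rw [hE, show (singleObjCyclesSelfIso (ComplexShape.up ℤ) 0 F).inv ≫ cyclesMap g 0 = z from ?_]
      · exact Projective.factorThru_comp _ _
      · rw [← cancel_mono (K.iCycles 0), Category.assoc, cyclesMap_i, singleObjCyclesSelfIso_inv_iCycles_assoc]
        simp [g, S]
  let e := DerivedCategory.Q.objObjPreimageIso Y
  have : homEval F Y = fun φ => homEval F _ (φ ≫ e.inv) ≫ (DerivedCategory.homologyFunctor C 0).map e.hom :=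
    funext fun φ => by simp [homEval, ← Functor.map_comp]
  rw [this]
  exact (Iso.homToEquiv ((DerivedCategory.homologyFunctor C 0).mapIso e)).bijective.comp
    ((hK _).comp (Iso.homToEquiv e.symm).bijective)

end hom

variable {A : Type u} [CommRing A]

/-- the telescope map -/
noncomputable def tel (f : A) : (ℕ →₀ A) →ₗ[A] (ℕ →₀ A) :=
  Finsupp.linearCombination A fun i => Finsupp.single i 1 - Finsupp.single (i + 1) f

/-- the projection -/
noncomputable def telπ (f : A) : (ℕ →₀ A) →ₗ[A] Localization.Away f :=
  Finsupp.linearCombination A fun i => IsLocalization.Away.invSelf (S := Localization.Away f) f ^ i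

theorem tel_single (f : A) (i : ℕ) (a : A) :
    tel f (Finsupp.single i a) = Finsupp.single i a - Finsupp.single (i + 1) (a * f) := by
  simp [tel, smul_sub]

theorem telπ_single (f : A) (i : ℕ) (a : A) :
    telπ f (Finsupp.single i a) = a • IsLocalization.Away.invSelf (S := Localization.Away f) f ^ i := by
  simp [telπ]

theorem smul_invSelf_pow (f : A) (i n : ℕ) :
    f ^ n • IsLocalization.Away.invSelf (S := Localization.Away f) f ^ (i + n) =
      IsLocalization.Away.invSelf (S := Localization.Away f) f ^ i := by
  rw [Algebra.smul_def, pow_add, map_pow, mul_left_comm, ← mul_pow,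
    IsLocalization.Away.mul_invSelf, one_pow, mul_one]

theorem telπ_comp_tel (f : A) : (telπ f).comp (tel f) = 0 := by
  ext i
  simp [tel_single, telπ_single]
  rw [sub_eq_zero]
  exact (by simpa using (smul_invSelf_pow f i 1).symm)

theorem tel_apply_zero (f : A) (v : ℕ →₀ A) : tel f v 0 = v 0 := by
  induction v using Finsupp.induction_linear with
  | zero => simp
  | add a b ha hb => simp [ha, hb]
  | single i a => rcases i with - | i <;> simp [tel_single]

theorem tel_apply_succ (f : A) (v : ℕ →₀ A) (j : ℕ) : tel f v (j + 1) = v (j + 1) - v j * f := by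
  induction v using Finsupp.induction_linear with
  | zero => simp
  | add a b ha hb => simp [ha, hb, add_mul]; abel
  | single i a =>
    rw [tel_single]
    by_cases h₁ : i = j + 1
    · subst h₁; simp [Finsupp.single_apply]
    by_cases h₂ : i = j
    · subst h₂; simp [Finsupp.single_apply]
    · simp [Finsupp.single_apply, h₁, h₂]

theorem tel_injective (f : A) : Function.Injective (tel f) := by
  refine (injective_iff_map_eq_zero _).2 fun v hv => Finsupp.ext fun j => ?_
  induction j with
  | zero => simpa [hv] using (tel_apply_zero f v).symm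
  | succ j ih => simpa [hv, ih] using (tel_apply_succ f v j).symm

theorem exists_tel_single (f : A) (v : ℕ →₀ A) :
    ∃ (n : ℕ) (a : A), v - Finsupp.single n a ∈ LinearMap.range (tel f) := by
  have hshift : ∀ (k i : ℕ) (a : A),
      Finsupp.single i a - Finsupp.single (i + k) (a * f ^ k) ∈ LinearMap.range (tel f) := fun k => by
    induction k with
    | zero => intro i a; simp
    | succ k ih =>
      intro i a
      have := add_mem (ih i a) (LinearMap.mem_range_self (tel f) (Finsupp.single (i + k) (a * f ^ k)))
      rw [tel_single, sub_add_sub_cancel, mul_assoc, ← pow_succ, add_assoc] at this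
      exact this
  induction v using Finsupp.induction_linear with
  | zero => exact ⟨0, 0, by simp⟩
  | single i a => exact ⟨i, a, by simp⟩
  | add x y hx hy =>
    obtain ⟨n, a, hn⟩ := hx
    obtain ⟨m, b, hm⟩ := hy
    refine ⟨n + m, a * f ^ m + b * f ^ n, ?_⟩
    have := add_mem (add_mem hn hm) (add_mem (hshift m n a) (hshift n m b))
    convert this using 1
    rw [add_comm m n, Finsupp.single_add]
    abel

theorem exact_tel (f : A) : Function.Exact (tel f) (telπ f) := by
  intro v
  refine ⟨fun hv => ?_, fun ⟨w, hw⟩ => by rw [← hw]; exact LinearMap.congr_fun (telπ_comp_tel f) w⟩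
  obtain ⟨n, a, w, hw⟩ := exists_tel_single f v
  have h0 : a • IsLocalization.Away.invSelf (S := Localization.Away f) f ^ n = 0 := by
    have := congrArg (telπ f) hw
    rw [← LinearMap.comp_apply, telπ_comp_tel, LinearMap.zero_apply, map_sub, hv, zero_sub, zero_eq_neg,
      telπ_single] at this
    exact this
  have h1 : algebraMap A (Localization.Away f) a = 0 := by
    have := congrArg (fun z => f ^ n • z) h0
    simp only [smul_zero] at this
    rw [smul_comm] at this
    have e := smul_invSelf_pow f 0 n
    rw [zero_add, pow_zero] at e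
    rw [e, Algebra.smul_def, mul_one] at this
    exact this
  obtain ⟨⟨_, c, rfl⟩, hc⟩ := (IsLocalization.map_eq_zero_iff (Submonoid.powers f) (Localization.Away f) a).1 h1
  have hs : Finsupp.single n a ∈ LinearMap.range (tel f) := by
    clear hw h0
    have : ∀ (c : ℕ) (n : ℕ) (a : A), f ^ c * a = 0 → Finsupp.single n a ∈ LinearMap.range (tel f) := fun c => by
      induction c with
      | zero => intro n a h; simp only [pow_zero, one_mul] at h; simp [h]
      | succ c ih =>
        intro n a h
        have := add_mem (LinearMap.mem_range_self (tel f) (Finsupp.single n a))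
          (ih (n + 1) (a * f) (by rw [← h]; ring))
        rwa [tel_single, sub_add_cancel] at this
    exact this c n a hc
  have := add_mem (LinearMap.mem_range_self (tel f) w) hs
  rwa [hw, sub_add_cancel] at this

theorem telπ_surjective (f : A) : Function.Surjective (telπ f) := fun z => by
  obtain ⟨n, a, ha⟩ := IsLocalization.Away.surj f z
  refine ⟨Finsupp.single n a, ?_⟩
  rw [telπ_single, Algebra.smul_def, ← ha, mul_assoc, ← mul_pow, IsLocalization.Away.mul_invSelf, one_pow, mul_one]

/-- sequences form -/
theorem bijective_tel_comp_iff (f : A) (N : ModuleCat.{u} A) :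
    Function.Bijective (fun φ : ModuleCat.of A (ℕ →₀ A) ⟶ N => ModuleCat.ofHom (tel f) ≫ φ) ↔ DC N f := by
  let e : (ModuleCat.of A (ℕ →₀ A) ⟶ N) ≃ (ℕ → N) :=
    { toFun := fun φ i => φ.hom (Finsupp.single i 1)
      invFun := fun x => ModuleCat.ofHom (Finsupp.linearCombination A x)
      left_inv := fun φ => ModuleCat.hom_ext (Finsupp.lhom_ext' fun i => LinearMap.ext_ring (by simp))
      right_inv := fun x => funext fun i => by simp }
  have : (fun x : ℕ → N => fun i => x i - LinearMap.lsmul A N f (x (i + 1))) =
      e ∘ (fun φ => ModuleCat.ofHom (tel f) ≫ φ) ∘ e.symm := by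
    funext x i
    simp [e, tel_single]
  rw [DC, DCe, this]
  exact ⟨fun h => e.bijective.comp (h.comp e.symm.bijective), fun h => by
    simpa [Function.comp_def] using e.symm.bijective.comp (h.comp e.bijective)⟩

theorem bijective_singleMap_comp_iff (f : A) (Y : Dual.D A) :
    Function.Bijective (fun φ : (DerivedCategory.singleFunctor (ModuleCat.{u} A) 0).obj (ModuleCat.of A (ℕ →₀ A)) ⟶ Y =>
      (DerivedCategory.singleFunctor (ModuleCat.{u} A) 0).map (ModuleCat.ofHom (tel f)) ≫ φ) ↔
      DC ((DerivedCategory.homologyFunctor (ModuleCat.{u} A) 0).obj Y) f := by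
  haveI : Projective (ModuleCat.of A (ℕ →₀ A)) :=
    (IsProjective.iff_projective (ModuleCat.of A (ℕ →₀ A))).1 inferInstance
  rw [← bijective_tel_comp_iff]
  let θ := Equiv.ofBijective _ (bijective_homEval (ModuleCat.of A (ℕ →₀ A)) Y)
  have : (fun φ => ModuleCat.ofHom (tel f) ≫ φ) ∘ θ =
      θ ∘ (fun φ => (DerivedCategory.singleFunctor (ModuleCat.{u} A) 0).map (ModuleCat.ofHom (tel f)) ≫ φ) :=
    funext fun φ => (homEval_natural _ _ Y φ).symm
  rw [← Function.Bijective.of_comp_iff' θ.bijective, ← this, Function.Bijective.of_comp_iff _ θ.bijective]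

theorem forall_subsingleton_iff (f : A) (K : Dual.D A) :
    (∀ n : ℤ, Subsingleton (Dual.inD A (Localization.Away f) ⟶ K⟦n⟧)) ↔
      ∀ n : ℤ, DC (Dual.HD A K n) f := by
  let S := ShortComplex.mk (ModuleCat.ofHom (tel f)) (ModuleCat.ofHom (telπ f))
    (ModuleCat.hom_ext (telπ_comp_tel f))
  have hS : S.ShortExact :=
    { exact := (ShortComplex.ShortExact.moduleCat_exact_iff_function_exact S).2 (exact_tel f)
      mono_f := (ModuleCat.mono_iff_injective _).2 (tel_injective f)
      epi_g := (ModuleCat.epi_iff_surjective _).2 (telπ_surjective f) }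
  let T := hS.singleTriangle
  have hT : T ∈ distTriang _ := hS.singleTriangle_distinguished
  let sh : ∀ n : ℤ, (Dual.HD A K n : Type u) ≃ₗ[A]
      ((DerivedCategory.homologyFunctor (ModuleCat.{u} A) 0).obj (K⟦n⟧) : Type u) := fun n =>
    (((DerivedCategory.homologyFunctor (ModuleCat.{u} A) 0).shiftIso n 0 n (add_zero n)).app K).toLinearEquiv.symm
  constructor
  · intro h n
    refine DC.of_equiv ?_ (sh n).symm
    rw [← bijective_singleMap_comp_iff]
    refine ⟨fun a b hab => sub_eq_zero.1 ?_, fun φ => ?_⟩
    · obtain ⟨ψ, hψ⟩ := Triangle.yoneda_exact₂ T hT (a - b)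
        ((Preadditive.comp_sub _ _ _).trans (sub_eq_zero.2 hab))
      exact hψ.trans ((congrArg (T.mor₂ ≫ ·) ((h n).elim ψ 0)).trans comp_zero)
    · obtain ⟨ψ, hψ⟩ := Triangle.yoneda_exact₂ T.invRotate (inv_rot_of_distTriang _ hT) φ (by
        haveI := h (n + 1)
        let adj := (shiftEquiv' (DerivedCategory (ModuleCat.{u} A)) (-1 : ℤ) 1 (by simp)).toAdjunction
        exact (adj.homEquiv _ _).injective
          ((cancel_mono ((shiftFunctorAdd (DerivedCategory (ModuleCat.{u} A)) n 1).inv.app K)).1
            ((h (n + 1)).elim _ _)))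
      exact ⟨ψ, hψ.symm⟩
  · intro h n
    have hb : ∀ m, Function.Bijective
        (fun φ : T.obj₂ ⟶ K⟦m⟧ => T.mor₁ ≫ φ) := fun m =>
      (bijective_singleMap_comp_iff f _).2 (DC.of_equiv (h m) (sh m))
    have h0 : ∀ φ : T.obj₃ ⟶ K⟦n⟧, φ = 0 := fun φ => by
      obtain ⟨ψ, rfl⟩ := Triangle.yoneda_exact₃ T hT φ ((hb n).injective (by
        show T.mor₁ ≫ T.mor₂ ≫ φ = T.mor₁ ≫ 0
        rw [← Category.assoc, comp_distTriang_mor_zero₁₂ T hT, zero_comp, comp_zero]))
      let i := (shiftFunctorAdd' (DerivedCategory (ModuleCat.{u} A)) (n - 1) 1 n (by simp)).app K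
      obtain ⟨ψ', hψ'⟩ := (shiftFunctor (DerivedCategory (ModuleCat.{u} A)) (1 : ℤ)).map_surjective (ψ ≫ i.hom)
      obtain ⟨χ, hχ⟩ := (hb (n - 1)).surjective ψ'
      rw [← cancel_mono i.hom, Category.assoc, ← hψ', ← hχ]
      refine Eq.trans ?_ zero_comp.symm
      rw [Functor.map_comp, ← Category.assoc]
      exact (congrArg (· ≫ _) (comp_distTriang_mor_zero₃₁ T hT)).trans zero_comp
    exact ⟨fun a b => (h0 a).trans (h0 b).symm⟩

theorem isDerivedComplete_iff (I : Ideal A) (K : Dual.D A) :
    DRing.IsDerivedComplete I K ↔ ∀ n : ℤ, DCI I (Dual.HD A K n) :=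
  ⟨fun h n f hf => (forall_subsingleton_iff f K).1 (h f hf) n,
    fun h f hf => (forall_subsingleton_iff f K).2 fun n => h n f hf⟩

theorem isDerivedComplete_inD_iff (I : Ideal A) (M : Type u) [AddCommGroup M] [Module A M] :
    DRing.IsDerivedComplete I (Dual.inD A M) ↔ DCI I M := by
  rw [isDerivedComplete_iff]
  let e : (Dual.HD A (Dual.inD A M) 0 : Type u) ≃ₗ[A] M :=
    ((DerivedCategory.singleFunctorCompHomologyFunctorIso (ModuleCat.{u} A) 0).app (ModuleCat.of A M)).toLinearEquiv
  refine ⟨fun h f hf => (h 0 f hf).of_equiv e, fun h n f hf => ?_⟩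
  by_cases hn : n = 0
  · subst hn; exact (h f hf).of_equiv e.symm
  · haveI : Subsingleton (Dual.HD A (Dual.inD A M) n : Type u) := by
      refine ModuleCat.subsingleton_of_isZero (IsZero.of_iso ?_
        ((DerivedCategory.homologyFunctorFactors (ModuleCat.{u} A) n).app
          ((CochainComplex.singleFunctor (ModuleCat.{u} A) 0).obj (ModuleCat.of A M))))
      exact ShortComplex.isZero_homology_of_isZero_X₂ _ (isZero_single_obj_X (ComplexShape.up ℤ) _ _ _ hn)
    exact dce_of_subsingleton _

end Groth.Agent.DerivedComplete
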