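import Groth.Agent.DerivedComplete.Basic

/-!
Nakayama, adic completeness and torsion for derived complete modules.
-/

universe u

namespace Groth.Agent.DerivedComplete

variable {A : Type*} [CommRing A] {M : Type*} [AddCommGroup M] [Module A M]

theorem smulPow_iterate {f : A} {x : ℕ → M} {y : ℕ → M} (hx : ∀ i, x i = y i + f • x (i + 1)) (n : ℕ) :
    x 0 = (∑ i ∈ Finset.range n, f ^ i • y i) + f ^ n • x n := by
  induction n with
  | zero => simp
  | succ n ih =>
    rw [ih, hx n, Finset.sum_range_succ, smul_add, smul_smul, ← pow_succ]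
    abel

theorem dc_of_isAdicComplete (I : Ideal A) [IsAdicComplete I M] {f : A} (hf : f ∈ I) : DC M f := by
  have hmem : ∀ (n : ℕ) (m : M), f ^ n • m ∈ (I ^ n • ⊤ : Submodule A M) := fun n m =>
    Submodule.smul_mem_smul (Ideal.pow_mem_pow hf n) Submodule.mem_top
  refine DCe.mk' (fun x hx i => IsHausdorff.haus (inferInstance : IsHausdorff I M) _ fun n => ?_) fun y => ?_
  · have hi : ∀ n i, x i = f ^ n • x (i + n) := fun n => by
      induction n with
      | zero => intro i; simp
      | succ n ih =>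
        intro i; rw [ih i, hx (i + n), LinearMap.lsmul_apply, smul_smul, ← pow_succ, add_assoc]
    rw [SModEq.zero, hi n i]
    exact hmem n _
  · let s : ℕ → ℕ → M := fun i n => ∑ k ∈ Finset.range n, f ^ k • y (i + k)
    have hs : ∀ i {m n}, m ≤ n → s i m ≡ s i n [SMOD (I ^ m • ⊤ : Submodule A M)] := fun i m n h => by
      rw [SModEq.sub_mem, ← neg_sub, neg_mem_iff, show s i n - s i m = ∑ k ∈ Finset.Ico m n, f ^ k • y (i + k) from
        (Finset.sum_Ico_eq_sub _ h).symm]
      exact sum_mem fun k hk => Submodule.smul_mem_smul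
        (Ideal.pow_le_pow_right (Finset.mem_Ico.1 hk).1 (Ideal.pow_mem_pow hf k)) Submodule.mem_top
    choose x hx using fun i => IsPrecomplete.prec (inferInstance : IsPrecomplete I M) (hs i)
    refine ⟨x, fun i => sub_eq_zero.1 (IsHausdorff.haus (inferInstance : IsHausdorff I M) _ fun n => ?_)⟩
    rw [SModEq.zero]
    have h₁ : x i - s i (n + 1) ∈ (I ^ n • ⊤ : Submodule A M) :=
      Submodule.smul_mono_left (Ideal.pow_le_pow_right (Nat.le_succ n)) (SModEq.sub_mem.1 (hx i (n + 1)).symm)
    have h₂ : f • (x (i + 1) - s (i + 1) n) ∈ (I ^ n • ⊤ : Submodule A M) :=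
      Submodule.smul_mem _ f (SModEq.sub_mem.1 (hx (i + 1) n).symm)
    convert sub_mem h₁ h₂ using 1
    simp only [s, LinearMap.lsmul_apply, smul_sub, Finset.smul_sum, smul_smul, ← pow_succ']
    rw [Finset.sum_range_succ' (fun k => f ^ k • y (i + k)) n]
    simp only [pow_zero, one_smul, add_zero]
    rw [Finset.sum_congr rfl fun k _ => by rw [show i + (k + 1) = i + 1 + k by omega]]
    abel

/-- derived Nakayama -/
theorem subsingleton_of_smul_top (s : Finset A) : ∀ (N : Type u) [AddCommGroup N] [Module A N],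
    (∀ f ∈ s, DC N f) → (Ideal.span (s : Set A) • (⊤ : Submodule A N) = ⊤) → Subsingleton N := by
  classical
  induction s using Finset.induction_on with
  | empty =>
    intro N _ _ _ h
    rw [Finset.coe_empty, Ideal.span_empty, Submodule.bot_smul] at h
    exact (Submodule.subsingleton_iff A).1 (subsingleton_of_bot_eq_top h)
  | insert g t hg ih =>
    intro N _ _ hdc h
    let u := LinearMap.lsmul A N g
    have hQ : Subsingleton (N ⧸ LinearMap.range u) := by
      refine ih _ (fun f hf => DC.coker u (hdc f (Finset.mem_insert_of_mem hf)) (hdc f (Finset.mem_insert_of_mem hf))) ?_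
      have h' := congrArg (Submodule.map (LinearMap.range u).mkQ) h
      rw [Submodule.map_smul'', Submodule.map_top, Submodule.range_mkQ, Finset.coe_insert,
        Ideal.span_insert, Submodule.sup_smul] at h'
      have h0 : Ideal.span {g} • (⊤ : Submodule A (N ⧸ LinearMap.range u)) = ⊥ := by
        rw [Submodule.ideal_span_singleton_smul, eq_bot_iff]
        rintro _ ⟨z, -, rfl⟩
        refine Submodule.Quotient.induction_on _ z fun z => ?_
        exact (Submodule.mem_bot A).2 ((Submodule.Quotient.mk_eq_zero _).2 ⟨z, rfl⟩)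
      rwa [h0, bot_sup_eq] at h'
    refine subsingleton_of_bijective (hdc g (Finset.mem_insert_self g t)) fun y => ?_
    exact (Submodule.Quotient.mk_eq_zero (LinearMap.range u)).1 (Subsingleton.elim (Submodule.Quotient.mk y) 0)

theorem pow_mul_card_le (s : Finset A) (k : ℕ) :
    Ideal.span (s : Set A) ^ (s.card * k + 1) ≤ Ideal.span ((fun f => f ^ k) '' (s : Set A)) := by
  classical
  induction s using Finset.induction_on with
  | empty => simp
  | insert g t hg ih =>
    rw [Finset.card_insert_of_notMem hg, Finset.coe_insert, Ideal.span_insert, Set.image_insert_eq,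
      Ideal.span_insert, show (t.card + 1) * k + 1 = k + (t.card * k + 1) by ring]
    refine Ideal.sup_pow_add_le_pow_sup_pow.trans (sup_le_sup ?_ ih)
    rw [Ideal.span_singleton_pow]

theorem exists_sum_of_mem (s : Finset A) (k : ℕ) {x : M}
    (hx : x ∈ (Ideal.span ((fun f => f ^ k) '' (s : Set A)) • ⊤ : Submodule A M)) :
    ∃ z : A → M, x = ∑ f ∈ s, f ^ k • z f := by
  classical
  refine Submodule.smul_induction_on hx (fun a ha n _ => ?_) ?_
  · induction ha using Submodule.span_induction with
    | mem a ha =>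
      obtain ⟨f, hf, rfl⟩ := ha
      refine ⟨Pi.single f n, ?_⟩
      rw [Finset.sum_eq_single f (fun g _ hg => by rw [Pi.single_eq_of_ne hg, smul_zero])
        (fun h => absurd hf h), Pi.single_eq_same]
    | zero => exact ⟨0, by simp⟩
    | add a b _ _ ha hb =>
      obtain ⟨z, hz⟩ := ha
      obtain ⟨w, hw⟩ := hb
      exact ⟨z + w, by rw [add_smul, hz, hw]; simp [smul_add, Finset.sum_add_distrib]⟩
    | smul c a _ ha =>
      obtain ⟨z, hz⟩ := ha
      exact ⟨c • z, by rw [smul_eq_mul, mul_smul, hz, Finset.smul_sum]; simp [smul_comm c]⟩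
  · rintro x y ⟨z, rfl⟩ ⟨w, rfl⟩
    exact ⟨z + w, by simp [smul_add, Finset.sum_add_distrib]⟩

/-- derived complete modules surject onto their completion -/
theorem of_surjective (s : Finset A) (h : ∀ f ∈ s, DC M f) :
    Function.Surjective (AdicCompletion.of (Ideal.span (s : Set A)) M) := by
  classical
  intro c
  let I := Ideal.span (s : Set A)
  choose m hm using fun n => Submodule.Quotient.mk_surjective _ (c.1 n)
  let p : ℕ → ℕ := fun k => (s.card + 1) * k + 1
  have hd : ∀ k, ∃ z : A → M, m (p (k + 1)) - m (p k) = ∑ f ∈ s, f ^ k • z f := fun k => by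
    have hle : p k ≤ p (k + 1) := Nat.add_le_add_right (Nat.mul_le_mul_left _ (Nat.le_succ k)) 1
    have h₁ : m (p (k + 1)) - m (p k) ∈ (I ^ p k • ⊤ : Submodule A M) := by
      rw [← Submodule.Quotient.eq, hm, ← c.2 hle, ← hm]
      rfl
    refine exists_sum_of_mem s k (Submodule.smul_mono_left ((Ideal.pow_le_pow_right ?_).trans (pow_mul_card_le s k)) h₁)
    exact Nat.add_le_add_right (Nat.mul_le_mul_right _ (Nat.le_succ _)) 1
  choose z hz using hd
  choose! x hx using fun f (hf : f ∈ s) => DCe.exists_sol (h f hf) fun k => z k f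
  refine ⟨m (p 0) + ∑ f ∈ s, x f 0, AdicCompletion.ext fun n => ?_⟩
  rw [AdicCompletion.of_apply, Submodule.mkQ_apply]
  have hsum : ∀ k, m (p k) - m (p 0) = ∑ f ∈ s, ∑ i ∈ Finset.range k, f ^ i • z i f := fun k => by
    rw [Finset.sum_comm, Finset.sum_congr rfl fun i _ => (hz i).symm, Finset.sum_range_sub fun i => m (p i)]
  have hp : n ≤ p n := (Nat.le_mul_of_pos_left n (Nat.succ_pos _)).trans (Nat.le_succ _)
  rw [← c.2 hp, ← hm]
  show _ = Submodule.Quotient.mk (m (p n))
  rw [Submodule.Quotient.eq]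
  have : m (p 0) + ∑ f ∈ s, x f 0 - m (p n) = ∑ f ∈ s, f ^ n • x f n := by
    rw [show m (p 0) + ∑ f ∈ s, x f 0 - m (p n) = ∑ f ∈ s, x f 0 - (m (p n) - m (p 0)) by abel, hsum,
      ← Finset.sum_sub_distrib]
    exact Finset.sum_congr rfl fun f hf => by rw [smulPow_iterate (hx f hf) n]; abel
  rw [this]
  exact sum_mem fun f hf => Submodule.smul_mem_smul (Ideal.pow_mem_pow (Ideal.subset_span hf) n) Submodule.mem_top

/-- derived complete torsion modules are bounded -/
theorem exists_pow_kill {f : A} (h : DC M f) (ht : ∀ m : M, ∃ n : ℕ, f ^ n • m = 0) :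
    ∃ n : ℕ, ∀ m : M, f ^ n • m = 0 := by
  classical
  by_contra hne
  have hne' : ∀ k, ∃ m : M, f ^ k • m ∉ LinearMap.range (LinearMap.lsmul A M (f ^ (k + 1))) := by
    intro k
    by_contra hk
    push Not at hk
    apply hne
    refine ⟨k, fun m => ?_⟩
    have hR := DC.range (LinearMap.lsmul A M (f ^ k)) h h
    have : Subsingleton (LinearMap.range (LinearMap.lsmul A M (f ^ k))) := by
      refine subsingleton_of_bijective hR fun ⟨y, w, hw⟩ => ?_
      obtain ⟨m', hm'⟩ := hk w
      refine ⟨⟨f ^ k • m', m', rfl⟩, Subtype.ext ?_⟩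
      show f • f ^ k • m' = y
      rw [← hw, LinearMap.lsmul_apply, smul_smul, ← pow_succ']
      exact hm'
    exact congrArg Subtype.val
      (Subsingleton.elim (⟨f ^ k • m, m, rfl⟩ : LinearMap.range (LinearMap.lsmul A M (f ^ k))) 0)
  choose w hw using hne'
  -- stages
  let step : ℕ → M × ℕ → M × M × ℕ := fun N p =>
    if f ^ N • p.1 ∈ LinearMap.range (LinearMap.lsmul A M (f ^ (N + p.2 + 1))) then
      (w (N + p.2), p.1 + f ^ p.2 • w (N + p.2), N + p.2 + 1)
    else (0, p.1, N + p.2 + 1)
  let st : ℕ → M × ℕ := fun N => Nat.rec (0, 0) (fun N p => (step N p).2) N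
  let S := fun N => (st N).1
  let j := fun N => (st N).2
  let v := fun N => (step N (st N)).1
  have hS : ∀ N, S (N + 1) = S N + f ^ j N • v N := fun N => by
    simp only [S, j, v, st, step]; split_ifs <;> simp
  have hj : ∀ N, j (N + 1) = N + j N + 1 := fun N => by
    simp only [j, st, step]; split_ifs <;> rfl
  have hgood : ∀ N, f ^ N • S (N + 1) ∉ LinearMap.range (LinearMap.lsmul A M (f ^ j (N + 1))) := fun N => by
    rw [hj]
    simp only [S, st, step]
    split_ifs with hc
    · intro hmem
      rw [smul_add, smul_smul, ← pow_add] at hmem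
      exact hw _ (by simpa [S, j, st, step] using sub_mem hmem hc)
    · exact hc
  have hjmono : StrictMono j := strictMono_nat_of_lt_succ fun N => by rw [hj]; omega
  let y : ℕ → M := fun i => if hi : ∃ N, j N = i then v hi.choose else 0
  have hy : ∀ N, y (j N) = v N := fun N => by
    have hi : ∃ N', j N' = j N := ⟨N, rfl⟩
    simp only [y, dif_pos hi, hjmono.injective hi.choose_spec]
  have hy0 : ∀ i, (∀ N, j N ≠ i) → y i = 0 := fun i hi => by
    simp only [y]; rw [dif_neg]; push Not; exact hi
  have hsum : ∀ N, ∑ i ∈ Finset.range (j N), f ^ i • y i = S N := fun N => by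
    induction N with
    | zero => simp [j, S, st]
    | succ N ih =>
      rw [hS, ← ih, ← Finset.sum_range_add_sum_Ico _ (hjmono (Nat.lt_succ_self N)).le,
        Finset.sum_eq_single_of_mem (j N) (Finset.mem_Ico.2 ⟨le_rfl, hjmono (Nat.lt_succ_self N)⟩) fun i hi hne => ?_, hy]
      rw [hy0 i fun N' e => ?_, smul_zero]
      rw [Finset.mem_Ico, ← e] at hi
      have h₁ := hjmono.le_iff_le.1 hi.1
      have h₂ := (hjmono.lt_iff_lt (a := N') (b := N + 1)).1 hi.2
      exact hne (by rw [← e, show N' = N by omega])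
  obtain ⟨x, hx⟩ := DCe.exists_sol h y
  obtain ⟨N, hN⟩ := ht (x 0)
  refine hgood N ⟨-(f ^ N • x (j (N + 1))), ?_⟩
  have e := smulPow_iterate hx (j (N + 1))
  replace e := e.trans (congrArg (· + f ^ j (N + 1) • x (j (N + 1))) (hsum (N + 1)))
  show f ^ j (N + 1) • -(f ^ N • x (j (N + 1))) = f ^ N • S (N + 1)
  rw [smul_neg, smul_comm, neg_eq_iff_add_eq_zero, ← smul_add, add_comm, ← e, hN]

theorem iInf_mul_iInf_eq_bot {f : A} (h : DC M f) :
    (⨅ n : ℕ, Ideal.span {f ^ n}) • (⨅ n : ℕ, Ideal.span {f ^ n} • (⊤ : Submodule A M)) = (⊥ : Submodule A M) := by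
  rw [eq_bot_iff]
  refine Submodule.smul_le.2 fun a ha m hm => ?_
  rw [Submodule.mem_iInf] at ha hm
  choose b hb using fun n => Ideal.mem_span_singleton'.1 (ha n)
  have hm' : ∀ n, ∃ m', f ^ n • m' = m := fun n => by
    have := hm n
    rw [Submodule.ideal_span_singleton_smul] at this
    obtain ⟨m', -, rfl⟩ := this
    exact ⟨m', rfl⟩
  choose c hc using hm'
  rw [Submodule.mem_bot]
  have := DCe.eq_zero h (fun i => b i • m) (fun i => ?_) 0
  · rw [← hb 0, pow_zero, mul_one]; exact this
  · show b i • m = f • b (i + 1) • m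
    rw [smul_smul, ← hc i, smul_smul, smul_smul, hb i]
    congr 1
    rw [← hb (i + 1)]; ring

theorem iInf_pow_pow_eq_bot (n : ℕ) : ∀ (B : Type u) [CommRing B] (t : Finset B), t.card ≤ n → (∀ f ∈ t, DC B f) →
    (⨅ k : ℕ, Ideal.span (t : Set B) ^ k) ^ (2 ^ n) = ⊥ := by
  classical
  induction n with
  | zero =>
    intro B _ t ht _
    rw [pow_zero, pow_one, eq_bot_iff]
    refine (iInf_le _ 1).trans (le_of_eq ?_)
    rw [Finset.card_eq_zero.1 (Nat.le_zero.1 ht)]
    simp
  | succ n ih =>
    intro B _ t ht hdc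
    rcases t.eq_empty_or_nonempty with rfl | ⟨g, hg⟩
    · rw [eq_bot_iff]
      refine (Ideal.pow_le_self (by positivity)).trans ((iInf_le _ 1).trans (le_of_eq ?_))
      simp
    let Q := ⨅ k : ℕ, Ideal.span (t : Set B) ^ k
    have hQ : Q ^ (2 ^ n) ≤ ⨅ m : ℕ, Ideal.span {g ^ m} := by
      refine le_iInf fun m => ?_
      let π := Ideal.Quotient.mk (Ideal.span {g ^ m})
      have hB : ∀ f ∈ (t.erase g).image π, DC (B ⧸ Ideal.span {g ^ m}) f := by
        intro fb hfb
        obtain ⟨f, hf, rfl⟩ := Finset.mem_image.1 hfb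
        have h₀ : DC (B ⧸ LinearMap.range (LinearMap.lsmul B B (g ^ m))) f :=
          DC.coker _ (hdc f (Finset.mem_of_mem_erase hf)) (hdc f (Finset.mem_of_mem_erase hf))
        have h₁ : DC (B ⧸ Ideal.span {g ^ m}) f := h₀.of_equiv (Submodule.quotEquivOfEq _ _ (by
          ext z; rw [LinearMap.mem_range, Ideal.mem_span_singleton']
          exact exists_congr fun a => by simp [mul_comm]))
        refine DCe.mk' (fun x hx => h₁.eq_zero x fun i => (hx i).trans rfl) fun y => ?_
        obtain ⟨x, hx⟩ := DCe.exists_sol h₁ y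
        exact ⟨x, fun i => (hx i).trans rfl⟩
      have hind := ih (B ⧸ Ideal.span {g ^ m}) ((t.erase g).image π)
        (Finset.card_image_le.trans (by rw [Finset.card_erase_of_mem hg]; omega)) hB
      have hmap : Q.map π ≤ ⨅ k : ℕ, Ideal.span (((t.erase g).image π : Finset _) : Set _) ^ k := by
        refine le_iInf fun k => (Ideal.map_mono (iInf_le _ (k + m))).trans ?_
        have hsp : Ideal.span (t : Set B) = Ideal.span ((t.erase g : Finset B) : Set B) ⊔ Ideal.span {g} := by
          conv_lhs => rw [← Finset.insert_erase hg]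
          rw [Finset.coe_insert, Ideal.span_insert, sup_comm]
        rw [hsp]
        refine (Ideal.map_mono Ideal.sup_pow_add_le_pow_sup_pow).trans ?_
        rw [Ideal.map_sup, Ideal.map_pow, Ideal.map_span, Ideal.span_singleton_pow, Ideal.map_quotient_self, sup_bot_eq,
          Finset.coe_image]
      have h2 : (Q ^ (2 ^ n)).map π = ⊥ := by
        rw [Ideal.map_pow, eq_bot_iff, ← hind]
        exact Ideal.pow_right_mono hmap _
      rw [Ideal.map_eq_bot_iff_le_ker, Ideal.mk_ker] at h2
      exact h2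
    rw [pow_succ, pow_mul, pow_two, eq_bot_iff]
    refine (Ideal.mul_mono hQ hQ).trans ?_
    have := iInf_mul_iInf_eq_bot (hdc g hg)
    rw [← this, smul_eq_mul]
    refine Ideal.mul_mono le_rfl (le_iInf fun m => (iInf_le _ m).trans ?_)
    rw [smul_eq_mul, Ideal.mul_top]

end Groth.Agent.DerivedComplete
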