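import Groth.Agent.DerivedComplete.Vanishing

/-!
Operators on sequences in a complex of modules.
-/

universe u

open CategoryTheory Limits HomologicalComplex Pretriangulated

attribute [local instance] HasDerivedCategory.standard

namespace Groth.Agent.DerivedComplete

variable {A : Type u} [CommRing A]

/-- shift to the right -/
noncomputable def seqShift : seqFunctor A ⟶ seqFunctor A where
  app M := ModuleCat.ofHom (LinearMap.pi fun i => Nat.rec 0 (fun j _ => LinearMap.proj j) i)
  naturality M N g := ModuleCat.hom_ext (LinearMap.ext fun x => funext fun i => by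
    cases i with
    | zero => exact (map_zero g.hom).symm
    | succ j => rfl)

/-- forget the first term -/
noncomputable def seqDrop : seqFunctor A ⟶ seqFunctor A where
  app M := ModuleCat.ofHom (LinearMap.pi fun i => LinearMap.proj (i + 1))

/-- first term inclusion -/
noncomputable def seqInit : 𝟭 (ModuleCat.{u} A) ⟶ seqFunctor A where
  app M := ModuleCat.ofHom (LinearMap.pi fun i => Nat.rec LinearMap.id (fun _ _ => 0) i)
  naturality M N g := ModuleCat.hom_ext (LinearMap.ext fun x => funext fun i => by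
    cases i with
    | zero => rfl
    | succ j => exact (map_zero g.hom).symm)

/-- the `i`th term -/
noncomputable def seqProj (i : ℕ) : seqFunctor A ⟶ 𝟭 (ModuleCat.{u} A) where
  app M := ModuleCat.ofHom (LinearMap.proj i)

/-- `x ↦ (-f x 0, x 0 - f x 1, ...)` -/
noncomputable def seqSigma (f : A) : seqFunctor A ⟶ seqFunctor A where
  app M := ModuleCat.ofHom ((seqShift.app M).hom - f • LinearMap.id)
  naturality M N g := ModuleCat.hom_ext (LinearMap.ext fun x => funext fun i => by
    show (seqShift.app N).hom ((g.hom.compLeft ℕ) x) i - f • g.hom (x i) =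
      g.hom ((seqShift.app M).hom x i - f • x i)
    rw [map_sub, map_smul]
    exact congrArg (fun z => z - f • g.hom (x i))
      (congrFun (ConcreteCategory.congr_hom (seqShift.naturality g) x) i))

/-- the kernel of the telescope -/
noncomputable def seqKer (f : A) : ModuleCat.{u} A ⥤ ModuleCat.{u} A where
  obj M := ModuleCat.of A (LinearMap.ker ((seqTel f).app M).hom)
  map {M N} g := ModuleCat.ofHom (((seqFunctor A).map g).hom.restrict fun x hx => by
    rw [LinearMap.mem_ker] at hx ⊢
    exact (ConcreteCategory.congr_hom ((seqTel f).naturality g) x).trans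
      ((congrArg ((seqFunctor A).map g).hom hx).trans (map_zero _)))

instance (f : A) : (seqKer f).Additive where
  map_add := rfl

/-- inclusion of the kernel -/
noncomputable def seqKerι (f : A) : seqKer f ⟶ seqFunctor A where
  app M := ModuleCat.ofHom (LinearMap.ker ((seqTel f).app M).hom).subtype

/-- a natural transformation on complexes -/
noncomputable abbrev onCx {F G : ModuleCat.{u} A ⥤ ModuleCat.{u} A} [F.Additive] [G.Additive] (α : F ⟶ G)
    (W : DRing.Cx A) : (F.mapHomologicalComplex (ComplexShape.up ℤ)).obj W ⟶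
      (G.mapHomologicalComplex (ComplexShape.up ℤ)).obj W :=
  (NatTrans.mapHomologicalComplex α (ComplexShape.up ℤ)).app W

/-- sequences in a complex -/
noncomputable abbrev seqCx (W : DRing.Cx A) : DRing.Cx A :=
  ((seqFunctor A).mapHomologicalComplex (ComplexShape.up ℤ)).obj W

theorem seqTel_surjective (f : A) (M : ModuleCat.{u} A) [Injective M] :
    Function.Surjective ((seqTel f).app M).hom := by
  intro y
  haveI : Mono (ModuleCat.ofHom (tel f)) := (ModuleCat.mono_iff_injective _).2 (tel_injective f)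
  let v : ModuleCat.of A (ℕ →₀ A) ⟶ M := ModuleCat.ofHom (Finsupp.linearCombination A (y : ℕ → M))
  let x := Injective.factorThru v (ModuleCat.ofHom (tel f))
  refine ⟨fun i => x.hom (Finsupp.single i 1), funext fun i => ?_⟩
  have h : x.hom (tel f (Finsupp.single i 1)) = v.hom (Finsupp.single i 1) :=
    ConcreteCategory.congr_hom (Injective.comp_factorThru v (ModuleCat.ofHom (tel f))) _
  show x.hom (Finsupp.single i 1) - f • x.hom (Finsupp.single (i + 1) 1) = y i
  rw [tel_single, map_sub, one_mul] at h
  rw [← map_smul, Finsupp.smul_single, smul_eq_mul, mul_one, h]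
  simp [v]

theorem bijective_onCx_seqTel_comp (f : A) (W : DRing.Cx A) (hW : ∀ n, Injective (W.X n))
    (L : Dual.D A) (hL : ∀ n : ℤ, DC (Dual.HD A L n) f) :
    Function.Bijective (fun φ : DRing.toD (seqCx W) ⟶ L => DerivedCategory.Q.map (onCx (seqTel f) W) ≫ φ) := by
  let K := ((seqKer f).mapHomologicalComplex (ComplexShape.up ℤ)).obj W
  let S : ShortComplex (DRing.Cx A) := ShortComplex.mk (onCx (seqKerι f) W) (onCx (seqTel f) W) (by
    ext n : 1
    exact ModuleCat.hom_ext (LinearMap.ext fun x => LinearMap.mem_ker.1 x.2))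
  have hS : S.ShortExact := HomologicalComplex.shortExact_of_degreewise_shortExact _ fun n =>
    { exact := (ShortComplex.ShortExact.moduleCat_exact_iff_function_exact _).2 fun x =>
        ⟨fun h => ⟨⟨x, h⟩, rfl⟩, fun ⟨y, hy⟩ => hy ▸ y.2⟩
      mono_f := (ModuleCat.mono_iff_injective _).2 Subtype.val_injective
      epi_g := (ModuleCat.epi_iff_surjective _).2 (haveI := hW n; seqTel_surjective f (W.X n)) }
  have hK : ∀ n : ℤ, Function.Bijective (fun x : K.X n => f • x) := fun n => by
    refine ⟨fun a b hab => Subtype.ext (funext fun i => ?_), fun b => ?_⟩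
    · have h₁ := congrFun a.2 i
      have h₂ := congrFun b.2 i
      change a.1 i - f • a.1 (i + 1) = (0 : W.X n) at h₁
      change b.1 i - f • b.1 (i + 1) = (0 : W.X n) at h₂
      rw [sub_eq_zero.1 h₁, sub_eq_zero.1 h₂]
      exact congrArg (fun z : K.X n => z.1 (i + 1)) hab
    · refine ⟨⟨fun i => b.1 (i + 1), LinearMap.mem_ker.2 (funext fun i => congrFun b.2 (i + 1))⟩,
        Subtype.ext (funext fun i => ?_)⟩
      have h₂ := congrFun b.2 i
      change b.1 i - f • b.1 (i + 1) = (0 : W.X n) at h₂
      exact (sub_eq_zero.1 h₂).symm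
  have h0 : ∀ (φ : DRing.toD K ⟶ L), φ = 0 := eq_zero_of_smul_bijective K hK hL
  have h1 : ∀ (φ : (DRing.toD K)⟦(1 : ℤ)⟧ ⟶ L), φ = 0 := fun φ => by
    let adj := (shiftEquiv' (DerivedCategory (ModuleCat.{u} A)) (1 : ℤ) (-1) (by simp)).toAdjunction
    have hL' : ∀ n : ℤ, DC (Dual.HD A (L⟦(-1 : ℤ)⟧) n) f := fun n => (hL (-1 + n)).of_equiv
      (((DerivedCategory.homologyFunctor (ModuleCat.{u} A) 0).shiftIso (-1) n (-1 + n) rfl).app L).symm.toLinearEquiv
    exact (adj.homEquiv _ _).injective ((eq_zero_of_smul_bijective K hK hL' _).trans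
      (eq_zero_of_smul_bijective K hK hL' _).symm)
  let T := DerivedCategory.triangleOfSES hS
  have hT : T ∈ distTriang _ := DerivedCategory.triangleOfSES_distinguished hS
  refine ⟨fun a b hab => sub_eq_zero.1 ?_, fun ψ => ?_⟩
  · obtain ⟨χ, hχ⟩ := Triangle.yoneda_exact₃ T hT (a - b) ((Preadditive.comp_sub _ _ _).trans (sub_eq_zero.2 hab))
    exact hχ.trans ((congrArg (T.mor₃ ≫ ·) (h1 χ)).trans comp_zero)
  · obtain ⟨χ, hχ⟩ := Triangle.yoneda_exact₂ T hT ψ (h0 _)
    exact ⟨χ, hχ.symm⟩

theorem dce_seqShift (M : ModuleCat.{u} A) : DCe (seqShift.app M).hom := by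
  refine DCe.mk' (fun x hx i => ?_) fun y => ?_
  · refine funext fun k => ?_
    induction k generalizing i with
    | zero => rw [hx i]; rfl
    | succ k ih => rw [hx i]; exact ih (i + 1)
  · let x : ℕ → ℕ → ℕ → M := fun _ => fun i k => ∑ j ∈ Finset.range (k + 1), y (i + j) (k - j)
    refine ⟨x 0, fun i => funext fun k => ?_⟩
    cases k with
    | zero =>
      show ∑ j ∈ Finset.range (0 + 1), y (i + j) (0 - j) = y i 0 + 0
      simp
    | succ k =>
      show ∑ j ∈ Finset.range (k + 1 + 1), y (i + j) (k + 1 - j) =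
        y i (k + 1) + ∑ j ∈ Finset.range (k + 1), y (i + 1 + j) (k - j)
      rw [Finset.sum_range_succ' _ (k + 1), add_comm]
      simp [add_assoc, add_comm 1]

/-- homology of sequences is sequences of homology -/
theorem exists_homology_seqCx (W : DRing.Cx A) (n : ℤ) :
    Nonempty (((seqCx W).homology n : Type u) ≃ₗ[A] (ℕ → W.homology n)) := by
  let p : ℕ → (seqCx W ⟶ W) := fun i =>
    onCx (seqProj i) W ≫ (Functor.mapHomologicalComplexIdIso (ModuleCat.{u} A) (ComplexShape.up ℤ)).hom.app W
  let l : ((seqCx W).homology n : Type u) →ₗ[A] (ℕ → W.homology n) :=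
    LinearMap.pi fun i => (homologyMap (p i) n).hom
  have hi : (ComplexShape.up ℤ).prev n = n - 1 := by simp
  have hk : (ComplexShape.up ℤ).next n = n + 1 := by simp
  have hl : ∀ z i, l (((seqCx W).homologyπ n).hom z) i = (W.homologyπ n).hom ((cyclesMap (p i) n).hom z) :=
    fun z i => W4cx.Elem.map_π (p i) z
  have hp : ∀ z i, (W.iCycles n).hom ((cyclesMap (p i) n).hom z) = (((seqCx W).iCycles n).hom z : ℕ → W.X n) i :=
    fun z i => W4cx.Elem.iCycles_map (p i) z
  refine ⟨LinearEquiv.ofBijective l ⟨(injective_iff_map_eq_zero _).2 fun a ha => ?_, fun b => ?_⟩⟩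
  · obtain ⟨z, rfl⟩ := W4cx.Elem.π_surjective a
    have h : ∀ i, ∃ w, (W.d (n - 1) n).hom w = (((seqCx W).iCycles n).hom z : ℕ → W.X n) i := fun i => by
      rw [← hp]
      exact (W4cx.Elem.π_eq_zero_iff hi _).1 ((hl z i).symm.trans (congrFun ha i))
    choose w hw using h
    exact (W4cx.Elem.π_eq_zero_iff hi z).2 ⟨w, funext hw⟩
  · choose z hz using fun i => W4cx.Elem.π_surjective (b i)
    obtain ⟨z', hz'⟩ := W4cx.Elem.exists_cycle (C := seqCx W) hk (fun i => (W.iCycles n).hom (z i))
      (funext fun i => W4cx.Elem.d_iCycles (z i) _)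
    refine ⟨((seqCx W).homologyπ n).hom z', funext fun i => ?_⟩
    rw [hl, ← hz i]
    exact congrArg _ (W4cx.Elem.iCycles_injective ((hp z' i).trans (congrFun hz' i)))

end Groth.Agent.DerivedComplete
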