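import Groth.Agent.DerivedComplete.Criterion
import Groth.Agent.KInjRes.Basic
import Groth.Agent.W4cx.Elem

/-!
Maps from complexes on which an element acts bijectively to derived complete objects vanish.
-/

universe u

open CategoryTheory Limits HomologicalComplex

attribute [local instance] HasDerivedCategory.standard

namespace Groth.Agent.DerivedComplete

variable {A : Type u} [CommRing A]

variable (A) in
/-- sequences -/
noncomputable def seqFunctor : ModuleCat.{u} A ⥤ ModuleCat.{u} A where
  obj M := ModuleCat.of A (ℕ → M)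
  map g := ModuleCat.ofHom (g.hom.compLeft ℕ)

instance : (seqFunctor A).Additive where
  map_add := rfl

/-- the telescope operator on sequences -/
noncomputable def seqTel (f : A) : seqFunctor A ⟶ seqFunctor A where
  app M := ModuleCat.ofHom (LinearMap.pi fun i => LinearMap.proj i - f • LinearMap.proj (i + 1))
  naturality M N g := ModuleCat.hom_ext (LinearMap.ext fun x => funext fun i => by
    show g.hom (x i) - f • g.hom (x (i + 1)) = g.hom (x i - f • x (i + 1))
    rw [map_sub, map_smul])

/-- the first term -/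
noncomputable def seqFst : seqFunctor A ⟶ 𝟭 (ModuleCat.{u} A) where
  app M := ModuleCat.ofHom (LinearMap.proj 0)

open W4cx.Elem in
theorem quasiIso_seqTel (f : A) (W : DRing.Cx A) (hW : ∀ n : ℤ, DC (W.homology n) f) :
    QuasiIso ((NatTrans.mapHomologicalComplex (seqTel f) (ComplexShape.up ℤ)).app W) := by
  refine ⟨fun n => ?_⟩
  have hi : (ComplexShape.up ℤ).prev n = n - 1 := by simp
  have hk : (ComplexShape.up ℤ).next n = n + 1 := by simp
  rw [quasiIsoAt_iff_isIso_homologyMap]
  refine @isIso_of_mono_of_epi _ _ _ _ _ _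
    ((mono_iff _ hi hk).2 fun x hx hw => ?_) ((epi_iff _ hi hk).2 fun y hy => ?_)
  · change ℕ → W.X n at x
    obtain ⟨w, hw⟩ := hw
    change ℕ → W.X (n - 1) at w
    have hw' : ∀ i, (W.d (n - 1) n).hom (w i) = x i - f • x (i + 1) := fun i => congrFun hw i
    choose z hz using fun i => exists_cycle hk (x i) (congrFun hx i)
    have h0 : ∀ i, (W.homologyπ n).hom (z i) = 0 := fun i =>
      (hW n).eq_zero (fun j => (W.homologyπ n).hom (z j)) (fun j => by
        show _ = f • (W.homologyπ n).hom (z (j + 1))
        rw [← sub_eq_zero, ← map_smul, ← map_sub, π_eq_zero_iff hi]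
        exact ⟨w j, by rw [hw' j, map_sub, map_smul, hz, hz]⟩) i
    choose v hv using fun i => (π_eq_zero_iff hi (z i)).1 (h0 i)
    exact ⟨v, funext fun i => (hv i).trans (hz i)⟩
  · change ℕ → W.X n at y
    choose z hz using fun i => exists_cycle hk (y i) (congrFun hy i)
    obtain ⟨a, ha⟩ := (hW n).exists_sol fun i => (W.homologyπ n).hom (z i)
    choose t ht using fun i => π_surjective (a i)
    have h0 : ∀ i, (W.homologyπ n).hom (z i - (t i - f • t (i + 1))) = 0 := fun i => by
      rw [map_sub, map_sub, map_smul, ht, ht, ha i]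
      simp
    choose v hv using fun i => (π_eq_zero_iff hi _).1 (h0 i)
    refine ⟨fun i => (W.iCycles n).hom (t i), funext fun i => d_iCycles (t i) _, v, funext fun i => ?_⟩
    show (W.d (n - 1) n).hom (v i) = y i - ((W.iCycles n).hom (t i) - f • (W.iCycles n).hom (t (i + 1)))
    rw [hv i, map_sub, map_sub, map_smul, hz]

theorem eq_zero_of_smul_bijective {f : A} (K : DRing.Cx A) {L : Dual.D A}
    (hK : ∀ i : ℤ, Function.Bijective (fun x : K.X i => f • x)) (hL : ∀ n : ℤ, DC (Dual.HD A L n) f)
    (φ : DRing.toD K ⟶ L) : φ = 0 := by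
  obtain ⟨W, hW, ⟨e⟩⟩ := KInjRes.exists_kInjective_iso (fun X => by
    obtain ⟨I, g, h1, h2, -⟩ := KInjRes.exists_kInjective_resolution X
    exact ⟨I, g, h1, h2⟩) L
  haveI := hW
  obtain ⟨g, hg⟩ := (KInjRes.Q_map_kInjective K W).1 (φ ≫ e.inv)
  have hWh : ∀ n : ℤ, DC (W.homology n) f := fun n => (hL n).of_equiv
    (((DerivedCategory.homologyFunctor (ModuleCat.{u} A) n).mapIso e.symm ≪≫
      (DerivedCategory.homologyFunctorFactors (ModuleCat.{u} A) n).app W).toLinearEquiv)
  haveI := quasiIso_seqTel f W hWh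
  let h : ∀ n : ℤ, K.X n →ₗ[A] K.X n := fun n =>
    (LinearEquiv.ofBijective (LinearMap.lsmul A (K.X n) f) (hK n)).symm.toLinearMap
  have hh : ∀ n k, f • h n k = k := fun n =>
    (LinearEquiv.ofBijective (LinearMap.lsmul A (K.X n) f) (hK n)).apply_symm_apply
  have hd : ∀ n m k, (K.d n m).hom (h n k) = h m ((K.d n m).hom k) := fun n m k => (hK m).injective <| by
    show f • (K.d n m).hom (h n k) = f • h m ((K.d n m).hom k)
    rw [← map_smul, hh, hh]
  have hdi : ∀ (i : ℕ) n m k, (K.d n m).hom ((h n)^[i] k) = (h m)^[i] ((K.d n m).hom k) := fun i => by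
    induction i with
    | zero => intros; rfl
    | succ i ih => intro n m k; rw [Function.iterate_succ_apply', hd, ih, Function.iterate_succ_apply']
  have hiter : ∀ (i : ℕ) n k, ((h n) ^ i) k = (h n)^[i] k := fun i n k => by rw [Module.End.pow_apply]
  let x : K ⟶ ((seqFunctor A).mapHomologicalComplex (ComplexShape.up ℤ)).obj W :=
    { f := fun n => ModuleCat.ofHom (LinearMap.pi fun i => (g.f n).hom ∘ₗ ((h n) ^ i))
      comm' := fun n m _ => ModuleCat.hom_ext (LinearMap.ext fun k => funext fun i => by
        show (W.d n m).hom ((g.f n).hom (((h n) ^ i) k)) = (g.f m).hom (((h m) ^ i) ((K.d n m).hom k))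
        rw [hiter, hiter, ← hdi]
        exact ConcreteCategory.congr_hom (g.comm n m) _) }
  have hx : x ≫ (NatTrans.mapHomologicalComplex (seqTel f) (ComplexShape.up ℤ)).app W = 0 := by
    ext n : 1
    refine ModuleCat.hom_ext (LinearMap.ext fun k => funext fun i => sub_eq_zero.2 ?_)
    show (g.f n).hom (((h n) ^ i) k) = f • (g.f n).hom (((h n) ^ (i + 1)) k)
    rw [← map_smul, hiter, hiter, Function.iterate_succ_apply', hh]
  have hx0 : DerivedCategory.Q.map x = 0 := by
    rw [← cancel_mono (DerivedCategory.Q.map ((NatTrans.mapHomologicalComplex (seqTel f) (ComplexShape.up ℤ)).app W)),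
      ← Functor.map_comp, hx, Functor.map_zero, zero_comp]
  have hxg : x ≫ (NatTrans.mapHomologicalComplex seqFst (ComplexShape.up ℤ)).app W ≫
      (Functor.mapHomologicalComplexIdIso (ModuleCat.{u} A) (ComplexShape.up ℤ)).hom.app W = g := by
    ext n : 1
    exact ModuleCat.hom_ext (LinearMap.ext fun k => rfl)
  have : DerivedCategory.Q.map g = 0 := by
    rw [← hxg, Functor.map_comp, hx0, zero_comp]
  rw [← cancel_mono e.inv, ← hg, this, zero_comp]

end Groth.Agent.DerivedComplete
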